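import Mathlib

set_option autoImplicit false

namespace Cfsg.Agent.Helper4

theorem dih_orderOf_two_of_sq {G : Type*} [Group G] {x : G} (h1 : x ≠ 1) (h2 : x * x = 1) :
    orderOf x = 2 := by
  apply orderOf_eq_prime
  · rw [pow_two]; exact h2
  · exact h1

theorem dih_inv_mul_zpow {G : Type*} [Group G] {x y : G} (hx : x * x = 1) (hy : y * y = 1)
    (k : ℤ) : x * (x * y) ^ k = (x * y) ^ (-k) * x := by
  have hxi : x⁻¹ = x := inv_eq_of_mul_eq_one_left hx
  have hyi : y⁻¹ = y := inv_eq_of_mul_eq_one_left hy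
  have h1 : x * (x * y) * x⁻¹ = (x * y)⁻¹ := by
    rw [mul_inv_rev, hxi, hyi]
    rw [← mul_assoc, hx, one_mul]
  have h2 : x * (x * y) ^ k * x⁻¹ = ((x * y) ^ k)⁻¹ := by
    have := map_zpow (MulAut.conj x) (x * y) k
    simp only [MulAut.conj_apply] at this
    rw [this, h1, inv_zpow]
  rw [zpow_neg, ← h2, hxi, mul_assoc, mul_assoc, hx, mul_one]

theorem dih_mul_inv_zpow {G : Type*} [Group G] {x y : G} (hx : x * x = 1) (hy : y * y = 1)
    (k : ℤ) : (x * y) ^ k * x = x * (x * y) ^ (-k) := by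
  rw [dih_inv_mul_zpow hx hy, neg_neg]

theorem dih_zpow_cast_eq {G : Type*} [Group G] (a : G) (i : ZMod (orderOf a)) (k : ℤ)
    (h : (k : ZMod (orderOf a)) = i) : a ^ (ZMod.cast i : ℤ) = a ^ k := by
  rw [zpow_eq_zpow_iff_modEq, ← ZMod.intCast_eq_intCast_iff, ZMod.intCast_zmod_cast, h]

theorem dih_zpow_cast_eq_one_iff {G : Type*} [Group G] (a : G) (i : ZMod (orderOf a)) :
    a ^ (ZMod.cast i : ℤ) = 1 ↔ i = 0 := by
  rw [← orderOf_dvd_iff_zpow_eq_one, ← ZMod.intCast_zmod_eq_zero_iff_dvd, ZMod.intCast_zmod_cast]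

noncomputable def dihMap4 {G : Type*} [Group G] (x y : G) : DihedralGroup (orderOf (x * y)) → G
  | DihedralGroup.r i => (x * y) ^ (ZMod.cast i : ℤ)
  | DihedralGroup.sr i => x * (x * y) ^ (ZMod.cast i : ℤ)

theorem dihMap4_mul {G : Type*} [Group G] (x y : G) (hx : x * x = 1) (hy : y * y = 1)
    (u v : DihedralGroup (orderOf (x * y))) :
    dihMap4 x y (u * v) = dihMap4 x y u * dihMap4 x y v := by
  rcases u with i | i <;> rcases v with j | j
  · rw [DihedralGroup.r_mul_r]
    simp only [dihMap4]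
    rw [← zpow_add]
    exact dih_zpow_cast_eq _ _ _ (by push_cast; simp)
  · rw [DihedralGroup.r_mul_sr]
    simp only [dihMap4]
    rw [← mul_assoc, dih_mul_inv_zpow hx hy, mul_assoc, ← zpow_add]
    congr 1
    exact dih_zpow_cast_eq _ _ _ (by push_cast; ring)
  · rw [DihedralGroup.sr_mul_r]
    simp only [dihMap4]
    rw [mul_assoc, ← zpow_add]
    congr 1
    exact dih_zpow_cast_eq _ _ _ (by push_cast; simp)
  · rw [DihedralGroup.sr_mul_sr]
    simp only [dihMap4]
    rw [mul_assoc, ← mul_assoc _ x, dih_mul_inv_zpow hx hy, mul_assoc, ← mul_assoc x x, hx, one_mul,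
      ← zpow_add]
    exact dih_zpow_cast_eq _ _ _ (by push_cast; ring)

theorem closure_pair_mulEquiv_dihedral {G : Type*} [Group G] (x y : G) (hx2 : x * x = 1)
    (hy2 : y * y = 1) (hx1 : x ≠ 1) (hy1 : y ≠ 1) (hxy : x ≠ y) :
    Nonempty (↥(Subgroup.closure ({x, y} : Set G)) ≃* DihedralGroup (orderOf (x * y))) := by
  have hxi : x⁻¹ = x := inv_eq_of_mul_eq_one_left hx2
  have hyi : y⁻¹ = y := inv_eq_of_mul_eq_one_left hy2
  let f : DihedralGroup (orderOf (x * y)) →* G :=
    MonoidHom.mk' (dihMap4 x y) (dihMap4_mul x y hx2 hy2)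
  have hxm : x ∈ Subgroup.closure ({x, y} : Set G) := Subgroup.subset_closure (by simp)
  have hym : y ∈ Subgroup.closure ({x, y} : Set G) := Subgroup.subset_closure (by simp)
  have hxnot : ∀ k : ℤ, x ≠ (x * y) ^ k := by
    intro k hk
    have hc : Commute x (x * y) := by
      have : Commute ((x * y) ^ k) (x * y) := (Commute.refl (x * y)).zpow_left k
      rwa [← hk] at this
    have hc' : Commute x y := by
      have h2 : y = x * (x * y) := by rw [← mul_assoc, hx2, one_mul]
      rw [h2]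
      exact (Commute.refl x).mul_right hc
    have h3 : (x * y) * (x * y) = 1 := by
      have e : x * y = y * x := hc'
      calc x * y * (x * y) = x * y * (y * x) := by rw [← e]
        _ = 1 := by rw [mul_assoc, ← mul_assoc y, hy2, one_mul, hx2]
    have h4 : x * y ≠ 1 := by
      intro h
      apply hxy
      have : x = y⁻¹ := eq_inv_of_mul_eq_one_left h
      rw [this, hyi]
    have h5 : orderOf (x * y) = 2 := dih_orderOf_two_of_sq h4 h3
    have h6 : ((x * y) ^ k = 1) ∨ ((x * y) ^ k = x * y) := by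
      rcases Int.even_or_odd k with ⟨c, hc⟩ | ⟨c, hc⟩
      · left
        rw [hc, ← two_mul, zpow_mul, zpow_two, h3, one_zpow]
      · right
        rw [hc, zpow_add, zpow_mul, zpow_two, h3, one_zpow, one_mul, zpow_one]
    rcases h6 with h6 | h6
    · rw [h6] at hk; exact hx1 hk
    · rw [h6] at hk
      apply hy1
      have : x * 1 = x * y := by rw [mul_one]; exact hk
      exact (mul_left_cancel this).symm
  have hinj : Function.Injective f := by
    rw [injective_iff_map_eq_one]
    intro u hu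
    rcases u with i | i
    · change (x * y) ^ (ZMod.cast i : ℤ) = 1 at hu
      rw [dih_zpow_cast_eq_one_iff] at hu
      rw [hu]; rfl
    · exfalso
      change x * (x * y) ^ (ZMod.cast i : ℤ) = 1 at hu
      apply hxnot (ZMod.cast i : ℤ)
      have : x⁻¹ = (x * y) ^ (ZMod.cast i : ℤ) := inv_eq_of_mul_eq_one_right hu
      rw [← this, hxi]
  have hrange : f.range = Subgroup.closure ({x, y} : Set G) := by
    apply le_antisymm
    · rintro _ ⟨u, rfl⟩
      rcases u with i | i
      · exact Subgroup.zpow_mem _ (Subgroup.mul_mem _ hxm hym) _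
      · exact Subgroup.mul_mem _ hxm (Subgroup.zpow_mem _ (Subgroup.mul_mem _ hxm hym) _)
    · rw [Subgroup.closure_le]
      rintro z (rfl | rfl)
      · refine ⟨DihedralGroup.sr 0, ?_⟩
        change z * (z * y) ^ (ZMod.cast (0 : ZMod (orderOf (z * y))) : ℤ) = z
        rw [(dih_zpow_cast_eq_one_iff (z * y) 0).2 rfl, mul_one]
      · refine ⟨DihedralGroup.sr 1, ?_⟩
        change x * (x * z) ^ (ZMod.cast (1 : ZMod (orderOf (x * z))) : ℤ) = z
        rw [dih_zpow_cast_eq (x * z) 1 1 (by simp), zpow_one, ← mul_assoc, hx2, one_mul]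
  exact ⟨((MonoidHom.ofInjective hinj).trans (MulEquiv.subgroupCongr hrange)).symm⟩

end Cfsg.Agent.Helper4
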