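import Mathlib
import Cfsg.Agent.Helper1.Hall
import Cfsg.Agent.Helper4.CardMul
import Cfsg.Prelude.Def_SolvableStructure

set_option autoImplicit false

namespace Cfsg.Agent.Helper4

universe u

open scoped Pointwise

theorem index_inf_of_coprime {G : Type*} [Group G] [Finite G] (H K : Subgroup G)
    (h : (H.index).Coprime K.index) : (H ⊓ K).index = H.index * K.index := by
  apply le_antisymm Subgroup.index_inf_le
  have h0 : 0 < (H ⊓ K).index := Nat.pos_of_ne_zero Subgroup.index_ne_zero_of_finite
  exact Nat.le_of_dvd h0 (Nat.Coprime.mul_dvd_of_dvd_of_dvd h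
    (Subgroup.index_dvd_of_le inf_le_left) (Subgroup.index_dvd_of_le inf_le_right))

theorem exists_mul_of_coprime_index {G : Type*} [Group G] [Finite G] (H K : Subgroup G)
    (h : (H.index).Coprime K.index) (g : G) : ∃ x ∈ H, ∃ y ∈ K, g = x * y := by
  have h1 := card_mul_card_eq H K
  have h2 := index_inf_of_coprime H K h
  have h3 := Subgroup.card_mul_index H
  have h4 := Subgroup.card_mul_index K
  have h5 := Subgroup.card_mul_index (H ⊓ K)
  have hcard : Nat.card ((H : Set G) * (K : Set G) : Set G) = Nat.card G := by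
    have : Nat.card ((H : Set G) * (K : Set G) : Set G) * Nat.card G =
        Nat.card G * Nat.card G := by
      calc Nat.card ((H : Set G) * (K : Set G) : Set G) * Nat.card G
          = Nat.card ((H : Set G) * (K : Set G) : Set G) *
              (Nat.card (H ⊓ K : Subgroup G) * (H ⊓ K).index) := by rw [h5]
        _ = (Nat.card ((H : Set G) * (K : Set G) : Set G) * Nat.card (H ⊓ K : Subgroup G)) *
              (H.index * K.index) := by rw [h2]; ring
        _ = (Nat.card H * Nat.card K) * (H.index * K.index) := by rw [h1]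
        _ = (Nat.card H * H.index) * (Nat.card K * K.index) := by ring
        _ = Nat.card G * Nat.card G := by rw [h3, h4]
    exact Nat.eq_of_mul_eq_mul_right Nat.card_pos this
  have huniv : ((H : Set G) * (K : Set G) : Set G) = Set.univ := by
    apply Set.eq_of_subset_of_ncard_le (Set.subset_univ _) _ (Set.toFinite _)
    rw [Set.ncard_univ, ← Nat.card_coe_set_eq, hcard]
  have hg : g ∈ ((H : Set G) * (K : Set G) : Set G) := by rw [huniv]; exact Set.mem_univ g
  obtain ⟨x, hx, y, hy, rfl⟩ := Set.mem_mul.mp hg
  exact ⟨x, hx, y, hy, rfl⟩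

theorem index_conj_smul {G : Type*} [Group G] [Finite G] (g : G) (H : Subgroup G) :
    (MulAut.conj g • H).index = H.index := by
  have h1 := Subgroup.card_mul_index (MulAut.conj g • H)
  have h2 := Subgroup.card_mul_index H
  have h3 : Nat.card (MulAut.conj g • H : Subgroup G) = Nat.card H :=
    Nat.card_congr (Subgroup.equivSMul (MulAut.conj g) H).toEquiv.symm
  rw [h3, ← h2] at h1
  exact Nat.eq_of_mul_eq_mul_left Nat.card_pos h1

/-- Intersection of the members of a family indexed by the primes `≤ n`. -/
def compInf {G : Type*} [Group G] (L : Nat.Primes → Subgroup G) : ℕ → Subgroup G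
  | 0 => ⊤
  | n + 1 => if h : (n + 1).Prime then compInf L n ⊓ L ⟨n + 1, h⟩ else compInf L n

theorem compInf_le {G : Type*} [Group G] (L : Nat.Primes → Subgroup G) (n : ℕ)
    (p : Nat.Primes) (hp : (p : ℕ) ≤ n) : compInf L n ≤ L p := by
  induction n with
  | zero => exact absurd hp (by have := p.2.pos; omega)
  | succ n ih =>
    by_cases h : (n + 1).Prime
    · have e : compInf L (n + 1) = compInf L n ⊓ L ⟨n + 1, h⟩ := by
        rw [compInf, dif_pos h]
      rw [e]
      by_cases hpq : (p : ℕ) = n + 1
      · have hpe : p = ⟨n + 1, h⟩ := Subtype.ext hpq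
        rw [hpe]; exact inf_le_right
      · exact inf_le_left.trans (ih (by omega))
    · have e : compInf L (n + 1) = compInf L n := by
        rw [compInf, dif_neg h]
      rw [e]
      have : (p : ℕ) ≠ n + 1 := fun h' => h (h' ▸ p.2)
      exact ih (by omega)

theorem compInf_index {G : Type*} [Group G] [Finite G] (L : Nat.Primes → Subgroup G)
    (hL : Cfsg.IsComplementSystem L) (n : ℕ) :
    ∀ q : ℕ, q.Prime → n < q → ¬ q ∣ (compInf L n).index := by
  induction n with
  | zero =>
    intro q hq _ hd
    have e : compInf L 0 = ⊤ := by rw [compInf]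
    rw [e, Subgroup.index_top] at hd
    exact hq.one_lt.ne' (Nat.dvd_one.mp hd)
  | succ n ih =>
    intro q hq hnq hd
    by_cases h : (n + 1).Prime
    · have e : compInf L (n + 1) = compInf L n ⊓ L ⟨n + 1, h⟩ := by
        rw [compInf, dif_pos h]
      have hidx : (L ⟨n + 1, h⟩).index = (n + 1) ^ (Nat.card G).factorization (n + 1) :=
        hL ⟨n + 1, h⟩
      have hcop : ((compInf L n).index).Coprime (L ⟨n + 1, h⟩).index := by
        rw [hidx]
        apply Nat.Coprime.pow_right
        rw [Nat.coprime_comm, Nat.Prime.coprime_iff_not_dvd h]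
        exact ih (n + 1) h (Nat.lt_succ_self n)
      rw [e, index_inf_of_coprime _ _ hcop, hidx] at hd
      rcases (Nat.Prime.dvd_mul hq).mp hd with h' | h'
      · exact ih q hq (by omega) h'
      · have h1 := Nat.Prime.dvd_of_dvd_pow hq h'
        have h2 := Nat.le_of_dvd (Nat.succ_pos n) h1
        omega
    · have e : compInf L (n + 1) = compInf L n := by
        rw [compInf, dif_neg h]
      rw [e] at hd
      exact ih q hq (by omega) hd

theorem complement_systems_conj {G : Type u} [Group G] [Finite G] [Group.IsSolvable G]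
    (K L : Nat.Primes → Subgroup G) (hK : Cfsg.IsComplementSystem K)
    (hL : Cfsg.IsComplementSystem L) :
    ∃ g : G, ∀ p : Nat.Primes, MulAut.conj g • K p = L p := by
  have claim : ∀ n : ℕ, ∃ g : G, ∀ p : Nat.Primes, (p : ℕ) ≤ n →
      MulAut.conj g • K p = L p := by
    intro n
    induction n with
    | zero =>
      refine ⟨1, fun p hp => ?_⟩
      exact absurd hp (by have := p.2.pos; omega)
    | succ n ih =>
      obtain ⟨g, hg⟩ := ih
      by_cases hq : (n + 1).Prime
      · obtain ⟨a, ha⟩ : ∃ a, a = (Nat.card G).factorization (n + 1) := ⟨_, rfl⟩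
        have hidxL : (L ⟨n + 1, hq⟩).index = (n + 1) ^ a := by rw [ha]; exact hL ⟨n + 1, hq⟩
        have hidxK : (MulAut.conj g • K ⟨n + 1, hq⟩).index = (n + 1) ^ a := by
          rw [index_conj_smul, ha]; exact hK ⟨n + 1, hq⟩
        have hpos : 0 < (n + 1) ^ a := pow_pos (Nat.succ_pos n) _
        have hcardeq : Nat.card (MulAut.conj g • K ⟨n + 1, hq⟩ : Subgroup G) =
            Nat.card (L ⟨n + 1, hq⟩) := by
          have h1 := Subgroup.card_mul_index (MulAut.conj g • K ⟨n + 1, hq⟩)
          have h2 := Subgroup.card_mul_index (L ⟨n + 1, hq⟩)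
          rw [hidxK] at h1; rw [hidxL] at h2
          exact Nat.eq_of_mul_eq_mul_right hpos (h1.trans h2.symm)
        have hcop : (Nat.card (L ⟨n + 1, hq⟩)).Coprime ((L ⟨n + 1, hq⟩).index) := by
          rw [hidxL]
          apply Nat.Coprime.pow_right
          rw [Nat.coprime_comm, Nat.Prime.coprime_iff_not_dvd hq]
          intro hd
          have h2 := Subgroup.card_mul_index (L ⟨n + 1, hq⟩)
          rw [hidxL] at h2
          have h3 : (n + 1) ^ (a + 1) ∣ Nat.card G := by
            calc (n + 1) ^ (a + 1) = (n + 1) ^ a * (n + 1) := pow_succ _ _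
              _ ∣ (n + 1) ^ a * Nat.card (L ⟨n + 1, hq⟩) := Nat.mul_dvd_mul_left _ hd
              _ = Nat.card G := by rw [mul_comm]; exact h2
          rw [ha] at h3
          exact Nat.pow_succ_factorization_not_dvd Nat.card_pos.ne' hq h3
        obtain ⟨x, hx⟩ := Cfsg.Agent.Helper1.hall_conj (Nat.card (L ⟨n + 1, hq⟩))
          ((L ⟨n + 1, hq⟩).index) (Subgroup.card_mul_index _).symm hcop
          (MulAut.conj g • K ⟨n + 1, hq⟩) (L ⟨n + 1, hq⟩) hcardeq rfl
        have hcopidx : ((compInf L n).index).Coprime
            ((MulAut.conj g • K ⟨n + 1, hq⟩).index) := by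
          rw [hidxK]
          apply Nat.Coprime.pow_right
          rw [Nat.coprime_comm, Nat.Prime.coprime_iff_not_dvd hq]
          exact compInf_index L hL n (n + 1) hq (Nat.lt_succ_self n)
        obtain ⟨j, hj, k, hk, hxjk⟩ := exists_mul_of_coprime_index _ _ hcopidx x
        refine ⟨j * g, fun p hp => ?_⟩
        by_cases hpq : (p : ℕ) = n + 1
        · have hpe : p = ⟨n + 1, hq⟩ := Subtype.ext hpq
          rw [hpe, map_mul, mul_smul]
          rw [← hx, hxjk, map_mul, mul_smul, Subgroup.conj_smul_eq_self_of_mem hk]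
        · have hpn : (p : ℕ) ≤ n := by omega
          rw [map_mul, mul_smul, hg p hpn]
          exact Subgroup.conj_smul_eq_self_of_mem (compInf_le L n p hpn hj)
      · refine ⟨g, fun p hp => ?_⟩
        have hpn : (p : ℕ) ≤ n := by
          have : (p : ℕ) ≠ n + 1 := fun h => hq (h ▸ p.2)
          omega
        exact hg p hpn
  obtain ⟨g, hg⟩ := claim (Nat.card G)
  refine ⟨g, fun p => ?_⟩
  by_cases hp : (p : ℕ) ≤ Nat.card G
  · exact hg p hp
  · have hnd : ¬ (p : ℕ) ∣ Nat.card G := fun hd => hp (Nat.le_of_dvd Nat.card_pos hd)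
    have hK1 : K p = ⊤ := by
      have := hK p
      rw [Nat.factorization_eq_zero_of_not_dvd hnd, pow_zero] at this
      exact Subgroup.index_eq_one.mp this
    have hL1 : L p = ⊤ := by
      have := hL p
      rw [Nat.factorization_eq_zero_of_not_dvd hnd, pow_zero] at this
      exact Subgroup.index_eq_one.mp this
    rw [hK1, hL1]
    exact Subgroup.Normal.conj_smul_eq_self g ⊤

end Cfsg.Agent.Helper4
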