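import Mathlib
import Cfsg.Prelude.Def_Local
import Cfsg.Agent.Helper1.Coprime2
import Cfsg.Agent.Helper9.PComp
import Cfsg.Agent.Helper9.Layer
import Cfsg.Agent.Helper20.PSolvHall

set_option autoImplicit false

namespace Cfsg.Agent.Helper4

universe u

/-- An element of order prime to `p` lies in every normal subgroup of `p`-power index. -/
theorem mem_of_coprime_order_of_index_pow {X : Type*} [Group X] [Finite X] (p : ℕ)
    (K : Subgroup X) [K.Normal] (k : ℕ) (hK : K.index = p ^ k) (x : X)
    (hx : (orderOf x).Coprime p) : x ∈ K := by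
  rw [← QuotientGroup.eq_one_iff]
  have h1 : orderOf (x : X ⧸ K) ∣ orderOf x := orderOf_map_dvd (QuotientGroup.mk' K) x
  have h2 : orderOf (x : X ⧸ K) ∣ p ^ k := by
    rw [← hK, Subgroup.index_eq_card]
    exact orderOf_dvd_natCard _
  have h3 : orderOf (x : X ⧸ K) = 1 :=
    (Nat.Coprime.coprime_dvd_left h1 (hx.pow_right k)).eq_one_of_dvd h2
  exact orderOf_eq_one_iff.mp h3

/-- A normal subgroup `X` of `G` with a central Sylow `p`-subgroup `Z` has a `p`-complement that is
normal in `G` and contains every element of `X` of order prime to `p`. -/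
theorem exists_normal_pprime_of_central_sylow {G : Type u} [Group G] [Finite G] (p : ℕ)
    [Fact p.Prime] (X Z : Subgroup G) (hXn : X.Normal) (hZp : IsPGroup p Z)
    (hZc : ∀ z ∈ Z, ∀ x ∈ X, z * x = x * z) (hidx : ¬ p ∣ Z.relIndex X) :
    ∃ K : Subgroup G, K.Normal ∧ (Nat.card K).Coprime p ∧
      ∀ x ∈ X, (orderOf x).Coprime p → x ∈ K := by
  classical
  have hpp : p.Prime := Fact.out
  have hZ'p : IsPGroup p (Z.subgroupOf X) := hZp.comap_subtype
  let P : Sylow p X := hZ'p.toSylow hidx
  have hPc : (P : Subgroup X) = Z.subgroupOf X := rfl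
  have hP : Subgroup.normalizer ((P : Subgroup X) : Set X) ≤ Subgroup.centralizer (P : Set X) := by
    intro x _
    rw [Subgroup.mem_centralizer_iff]
    intro z hz
    have hz' : (z : G) ∈ Z := Subgroup.mem_subgroupOf.mp hz
    apply Subtype.ext
    exact hZc z hz' x x.2
  set K' := (MonoidHom.transferSylow P hP).ker with hK'
  have hcompl := MonoidHom.ker_transferSylow_isComplement' P hP
  have hK'cop : ¬ p ∣ Nat.card K' := MonoidHom.not_dvd_card_ker_transferSylow P hP
  have hK'cop' : (Nat.card K').Coprime p := ((Nat.Prime.coprime_iff_not_dvd hpp).mpr hK'cop).symm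
  obtain ⟨k, hk⟩ := (IsPGroup.iff_card).mp P.isPGroup'
  have hK'idx : K'.index = p ^ k := by rw [hcompl.symm.index_eq_card]; exact hk
  have hmem : ∀ x : X, (orderOf x).Coprime p → x ∈ K' :=
    fun x hx => mem_of_coprime_order_of_index_pow p K' k hK'idx x hx
  refine ⟨K'.map X.subtype, ?_, ?_, ?_⟩
  · constructor
    intro y hy g
    obtain ⟨x, hx, rfl⟩ := Subgroup.mem_map.mp hy
    have hgx : g * (x : G) * g⁻¹ ∈ X := hXn.conj_mem _ x.2 g
    refine Subgroup.mem_map.mpr ⟨⟨_, hgx⟩, hmem _ ?_, rfl⟩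
    have ho : orderOf (⟨g * (x : G) * g⁻¹, hgx⟩ : X) = orderOf x := by
      rw [← Subgroup.orderOf_coe, ← Subgroup.orderOf_coe]
      exact MulEquiv.orderOf_eq (MulAut.conj g) (x : G)
    rw [ho]
    have h1 : orderOf x ∣ Nat.card K' := Subgroup.orderOf_dvd_natCard K' hx
    exact Nat.Coprime.coprime_dvd_left h1 hK'cop'
  · rw [Subgroup.card_map_of_injective X.subtype_injective]
    exact hK'cop'
  · intro x hx ho
    refine Subgroup.mem_map.mpr ⟨⟨x, hx⟩, hmem _ ?_, rfl⟩
    rwa [Subgroup.orderOf_mk]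

/-- In a `p`-solvable group, a `p'`-subgroup normalized by a Sylow `p`-subgroup lies in
`O_{p'}(G)`. -/
theorem le_pPrimeCore_of_sylow_normalizes (p : ℕ) [Fact p.Prime] :
    ∀ (n : ℕ) (G : Type u) [Group G] [Finite G],
    Cfsg.IsPSolvable p G → Nat.card G = n → ∀ (P : Sylow p G) (Q : Subgroup G),
    (Nat.card Q).Coprime p → (P : Subgroup G) ≤ Subgroup.normalizer (Q : Set G) →
    Q ≤ Cfsg.pPrimeCore p G := by
  intro n
  induction n using Nat.strong_induction_on with
  | _ n ih =>
  intro G _ _ hG hcard P Q hQ hPQ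
  have hpp : p.Prime := Fact.out
  by_cases htriv : Subsingleton G
  · intro x hx
    have : x = 1 := Subsingleton.elim _ _
    rw [this]; exact one_mem _
  rw [not_subsingleton_iff_nontrivial] at htriv
  haveI hOn : (Cfsg.pPrimeCore p G).Normal := inferInstance
  have quot : ∀ (M : Subgroup G) [M.Normal], M ≠ ⊥ →
      Q.map (QuotientGroup.mk' M) ≤ Cfsg.pPrimeCore p (G ⧸ M) := by
    intro M _ hMne
    have hlt : Nat.card (G ⧸ M) < n := by
      rw [← hcard, ← Subgroup.index_eq_card, ← Subgroup.index_mul_card M]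
      have h1 : 1 < Nat.card M := (Subgroup.one_lt_card_iff_ne_bot M).mpr hMne
      have h2 : 0 < M.index := Nat.pos_of_ne_zero (Subgroup.index_ne_zero_of_finite)
      nlinarith
    have hπs : Function.Surjective (QuotientGroup.mk' M) := QuotientGroup.mk'_surjective M
    exact ih _ hlt (G ⧸ M) (Cfsg.Agent.Helper20.isPSolvable_quotient p hG M) rfl
      (P.mapSurjective hπs) (Q.map (QuotientGroup.mk' M))
      (hQ.coprime_dvd_left (Subgroup.card_map_dvd Q _))
      (by rw [Sylow.coe_mapSurjective]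
          exact (Subgroup.map_mono hPQ).trans (Subgroup.le_normalizer_map _))
  by_cases hO : Cfsg.pPrimeCore p G = ⊥
  · obtain ⟨M, hMn, hMne, hM⟩ := Cfsg.Agent.Helper20.psolvable_setup p hG
    have hMp : IsPGroup p M := by
      rcases hM with h | h
      · exact h
      · exfalso
        have h1 := Cfsg.Agent.Helper9.le_pPrimeCore hMn h
        rw [hO] at h1
        exact hMne (le_bot_iff.mp h1)
    haveI := hMn
    have hMP : M ≤ (P : Subgroup G) := hMp.le_sylow_of_normal P
    have hdisj : M ⊓ Q = ⊥ := by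
      apply disjoint_iff.mp
      apply Subgroup.disjoint_of_coprime_natCard
      obtain ⟨k, hk⟩ := (IsPGroup.iff_card).mp hMp
      rw [hk]
      exact (hQ.pow_right k).symm
    have hQM : ∀ m ∈ M, ∀ x ∈ Q, m * x = x * m := by
      intro m hm x hx
      have h1 : m * x * m⁻¹ * x⁻¹ ∈ Q := by
        have h0 := (Subgroup.mem_normalizer_iff.mp (hPQ (hMP hm)) x).mp hx
        exact Q.mul_mem h0 (Q.inv_mem hx)
      have h2 : m * x * m⁻¹ * x⁻¹ ∈ M := by
        have h0 : m * (x * m⁻¹ * x⁻¹) ∈ M := M.mul_mem hm (hMn.conj_mem _ (M.inv_mem hm) x)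
        simpa [mul_assoc] using h0
      have h3 : m * x * m⁻¹ * x⁻¹ = 1 := by
        have h0 : m * x * m⁻¹ * x⁻¹ ∈ M ⊓ Q := Subgroup.mem_inf.mpr ⟨h2, h1⟩
        rw [hdisj] at h0
        exact Subgroup.mem_bot.mp h0
      calc m * x = (m * x * m⁻¹ * x⁻¹) * (x * m) := by group
        _ = x * m := by rw [h3, one_mul]
    have hQL := quot M hMne
    set π := QuotientGroup.mk' M with hπ
    set L := (Cfsg.pPrimeCore p (G ⧸ M)).comap π with hL
    have hLn : L.Normal := inferInstance
    set X := L ⊓ Subgroup.centralizer (M : Set G) with hX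
    have hXn : X.Normal := inferInstance
    have hQX : Q ≤ X := by
      refine le_inf ?_ ?_
      · intro x hx
        exact hQL (Subgroup.mem_map_of_mem _ hx)
      · intro x hx
        rw [Subgroup.mem_centralizer_iff]
        intro m hm
        exact hQM m hm x hx
    have hidx : ¬ p ∣ (X ⊓ M).relIndex X := by
      rw [Subgroup.inf_relIndex_left]
      have h1 : M.relIndex X = Nat.card (X.map π) := by
        rw [← Subgroup.relIndex_ker, hπ, QuotientGroup.ker_mk']
      rw [h1]
      have h2 : X.map π ≤ Cfsg.pPrimeCore p (G ⧸ M) := by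
        rw [Subgroup.map_le_iff_le_comap]
        exact inf_le_left
      have h3 : (Nat.card (X.map π)).Coprime p :=
        Nat.Coprime.coprime_dvd_left (Subgroup.card_dvd_of_le h2)
          (Cfsg.Agent.Helper9.pPrimeCore_coprime p)
      exact fun h => (Nat.Prime.coprime_iff_not_dvd hpp).mp h3.symm h
    obtain ⟨K, hKn, hKcop, hKmem⟩ := exists_normal_pprime_of_central_sylow p X (X ⊓ M) hXn
      (hMp.to_le inf_le_right)
      (fun z hz x hx => Subgroup.mem_centralizer_iff.mp (Subgroup.mem_inf.mp hx).2 z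
        (Subgroup.mem_inf.mp hz).2) hidx
    have hK : K ≤ Cfsg.pPrimeCore p G := Cfsg.Agent.Helper9.le_pPrimeCore hKn hKcop
    intro x hx
    apply hK
    apply hKmem x (hQX hx)
    exact Nat.Coprime.coprime_dvd_left (Subgroup.orderOf_dvd_natCard Q hx) hQ
  · have h := quot (Cfsg.pPrimeCore p G) hO
    rw [Cfsg.Agent.Helper9.pPrimeCore_quotient_eq_bot p] at h
    intro x hx
    have h1 : (QuotientGroup.mk' _ x) ∈ (⊥ : Subgroup (G ⧸ Cfsg.pPrimeCore p G)) :=
      h (Subgroup.mem_map_of_mem _ hx)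
    rw [Subgroup.mem_bot] at h1
    exact (QuotientGroup.eq_one_iff x).mp h1

/-- S4602. -/
theorem sylow_normalizes_sylow_iff {G : Type u} [Group G] [Finite G] (p q : ℕ) [Fact p.Prime]
    [Fact q.Prime] (hpq : p ≠ q) (hsolv : Cfsg.IsPSolvable p G) :
    (∃ (P : Sylow p G) (Q : Sylow q G),
      (P : Subgroup G) ≤ Subgroup.normalizer ((Q : Subgroup G) : Set G)) ↔
      ¬ q ∣ (Cfsg.pPrimeCore p G).index := by
  have hpp : p.Prime := Fact.out
  have hqp : q.Prime := Fact.out
  haveI hOn : (Cfsg.pPrimeCore p G).Normal := inferInstance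
  constructor
  · rintro ⟨P, Q, hPQ⟩
    have hQcop : (Nat.card (Q : Subgroup G)).Coprime p := by
      obtain ⟨k, hk⟩ := (IsPGroup.iff_card).mp Q.isPGroup'
      rw [hk]
      exact Nat.Coprime.pow_left k ((Nat.coprime_primes hqp hpp).mpr (Ne.symm hpq))
    have hle := le_pPrimeCore_of_sylow_normalizes p _ G hsolv rfl P (Q : Subgroup G) hQcop hPQ
    intro hdvd
    have h1 := Subgroup.relIndex_mul_index hle
    exact Q.not_dvd_index (h1 ▸ Dvd.dvd.mul_left hdvd _)
  · intro hq
    obtain ⟨P⟩ : Nonempty (Sylow p G) := inferInstance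
    set K := Cfsg.pPrimeCore p G with hK
    have hcop : (Nat.card (P : Subgroup G)).Coprime (Nat.card K) := by
      obtain ⟨k, hk⟩ := (IsPGroup.iff_card).mp P.isPGroup'
      rw [hk]
      exact Nat.Coprime.pow_left k (Cfsg.Agent.Helper9.pPrimeCore_coprime p).symm
    have hPsolv : Group.IsSolvable (P : Subgroup G) := by
      haveI : Group.IsNilpotent (P : Subgroup G) := P.isPGroup'.isNilpotent
      infer_instance
    obtain ⟨Q, hQK, hQcard, hPQ⟩ := Cfsg.Agent.Helper1.inv_sylow_exists (P : Subgroup G) K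
      (by rw [Subgroup.normalizer_eq_top]; exact le_top) hcop (Or.inl hPsolv) q
    have hfac : (Nat.card K).factorization q = (Nat.card G).factorization q := by
      have h1 : Nat.card G = K.index * Nat.card K := (Subgroup.index_mul_card K).symm
      rw [h1, Nat.factorization_mul (Subgroup.index_ne_zero_of_finite) (Nat.card_pos.ne')]
      simp [Nat.factorization_eq_zero_of_not_dvd hq]
    rw [hfac] at hQcard
    exact ⟨P, Sylow.ofCard Q hQcard, hPQ⟩

end Cfsg.Agent.Helper4
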