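import Mathlib
import Cfsg.Prelude.Def_Local
import Cfsg.Agent.Helper4.PSolvSylow
import Cfsg.Agent.Helper11.TI2
import Cfsg.Agent.Lead.PGroup

set_option autoImplicit false

namespace Cfsg.Agent.Helper4

universe u

theorem relIndex_dvd_relIndex_of_normal {G : Type*} [Group G] (H L K : Subgroup G) [H.Normal]
    (hLK : L ≤ K) (hHK : H ≤ K) : H.relIndex L ∣ H.relIndex K := by
  rw [← Subgroup.relIndex_sup_right (H := L) (K := H)]
  have h := Subgroup.relIndex_mul_relIndex H (L ⊔ H) K le_sup_right (sup_le hLK hHK)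
  exact Dvd.intro _ h

/-- A nontrivial normal subgroup of a `p`-solvable group contains a nontrivial normal subgroup of
the whole group that is a `p`-group or a `p'`-group. -/
theorem psolvable_setup_in {G : Type u} [Group G] [Finite G] (p : ℕ) [Fact p.Prime]
    (hG : Cfsg.IsPSolvable p G) (N : Subgroup G) (hN : N.Normal) (hNne : N ≠ ⊥) :
    ∃ A : Subgroup G, A.Normal ∧ A ≤ N ∧ A ≠ ⊥ ∧ (IsPGroup p A ∨ (Nat.card A).Coprime p) := by
  classical
  obtain ⟨n, H, h0, hlast, hmono, hnorm, hstep⟩ := hG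
  have hex' : ∃ k : ℕ, ∃ h : k < n + 1, H ⟨k, h⟩ ⊓ N ≠ ⊥ := by
    refine ⟨n, Nat.lt_succ_self n, ?_⟩
    have : (⟨n, Nat.lt_succ_self n⟩ : Fin (n + 1)) = Fin.last n := rfl
    rw [this, hlast, top_inf_eq]
    exact hNne
  obtain ⟨hk, hHk⟩ := Nat.find_spec hex'
  have hmin : ∀ j : ℕ, j < Nat.find hex' → ∀ h : j < n + 1, H ⟨j, h⟩ ⊓ N = ⊥ := by
    intro j hj h
    by_contra hne
    exact Nat.find_min hex' hj ⟨h, hne⟩
  have hk0 : Nat.find hex' ≠ 0 := by
    intro h0'
    apply hHk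
    have : (⟨Nat.find hex', hk⟩ : Fin (n + 1)) = 0 := by
      apply Fin.ext
      show Nat.find hex' = 0
      exact h0'
    rw [this, h0, bot_inf_eq]
  obtain ⟨j, hj⟩ := Nat.exists_eq_succ_of_ne_zero hk0
  have hjn : j < n := by omega
  have hHj : H ⟨j, by omega⟩ ⊓ N = ⊥ := hmin j (by omega) (by omega)
  have hs := hstep ⟨j, hjn⟩
  have e1 : (⟨j, hjn⟩ : Fin n).castSucc = ⟨j, by omega⟩ := rfl
  have e2 : (⟨j, hjn⟩ : Fin n).succ = ⟨Nat.find hex', hk⟩ := by
    apply Fin.ext
    show j + 1 = Nat.find hex'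
    exact hj.symm
  rw [e1, e2] at hs
  haveI hn1 : (H ⟨j, by omega⟩).Normal := hnorm _
  haveI hn2 : (H ⟨Nat.find hex', hk⟩).Normal := hnorm _
  haveI := hN
  have hjk : H ⟨j, by omega⟩ ≤ H ⟨Nat.find hex', hk⟩ :=
    hmono (Fin.mk_le_mk.mpr (by omega))
  have hbot : H ⟨j, by omega⟩ ⊓ (H ⟨Nat.find hex', hk⟩ ⊓ N) = ⊥ := by
    exact le_bot_iff.mp (le_trans (inf_le_inf_left _ inf_le_right) hHj.le)
  have hcardA : Nat.card ↥(H ⟨Nat.find hex', hk⟩ ⊓ N) ∣
      (H ⟨j, by omega⟩).relIndex (H ⟨Nat.find hex', hk⟩) := by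
    have h1 : (H ⟨j, by omega⟩).relIndex (H ⟨Nat.find hex', hk⟩ ⊓ N) =
        Nat.card ↥(H ⟨Nat.find hex', hk⟩ ⊓ N) := by
      rw [← Subgroup.inf_relIndex_right, hbot, Subgroup.relIndex_bot_left]
    rw [← h1]
    exact relIndex_dvd_relIndex_of_normal _ _ _ inf_le_left hjk
  refine ⟨H ⟨Nat.find hex', hk⟩ ⊓ N, inferInstance, inf_le_right, hHk, ?_⟩
  rcases hs with ⟨m, hm⟩ | hc
  · left
    rw [hm] at hcardA
    obtain ⟨i, -, hi⟩ := (Nat.dvd_prime_pow Fact.out).mp hcardA
    exact IsPGroup.of_card hi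
  · right
    exact Nat.Coprime.coprime_dvd_left hcardA hc

/-- A subgroup all of whose elements of order prime to `p` are trivial is a `p`-group. -/
theorem isPGroup_of_pprime_trivial {G : Type*} [Group G] [Finite G] (p : ℕ) [Fact p.Prime]
    (X : Subgroup G) (h : ∀ x ∈ X, (orderOf x).Coprime p → x = 1) : IsPGroup p X := by
  have hpp : p.Prime := Fact.out
  intro x
  obtain ⟨a, m, hm, hxm⟩ := Nat.exists_eq_pow_mul_and_not_dvd (orderOf_pos (x : G)).ne' p hpp.ne_one
  refine ⟨a, ?_⟩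
  have h1 : orderOf ((x : G) ^ p ^ a) = m := by
    rw [orderOf_pow, hxm, Nat.gcd_eq_right (Dvd.intro _ rfl)]
    exact Nat.mul_div_cancel_left m (pow_pos hpp.pos a)
  have h2 : (x : G) ^ p ^ a = 1 := by
    apply h _ (X.pow_mem x.2 _)
    rw [h1]
    exact ((Nat.Prime.coprime_iff_not_dvd hpp).mpr hm).symm
  exact Subtype.ext h2

/-- Hall–Higman Lemma 1.2.3: in a `p`-solvable group with trivial `p'`-core, the `p`-core contains
its centralizer. -/
theorem centralizer_pCore_le_of_psolvable {G : Type u} [Group G] [Finite G] (p : ℕ)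
    [Fact p.Prime] (hG : Cfsg.IsPSolvable p G) (hO : Cfsg.pPrimeCore p G = ⊥) :
    Subgroup.centralizer ((Cfsg.pCore p G : Subgroup G) : Set G) ≤ Cfsg.pCore p G := by
  classical
  have hpp : p.Prime := Fact.out
  set U := Cfsg.pCore p G with hU
  haveI hUn : U.Normal := Cfsg.pCore_normal p G
  have hUp : IsPGroup p U := Cfsg.Agent.Helper9.pCore_isPGroup p
  set C := Subgroup.centralizer (U : Set G) with hC
  haveI hCn : C.Normal := inferInstance
  by_contra hCU
  set π := QuotientGroup.mk' U with hπ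
  have hπs : Function.Surjective π := QuotientGroup.mk'_surjective U
  have hker : π.ker = U := QuotientGroup.ker_mk' U
  have hNn : (C.map π).Normal := hCn.map π hπs
  have hNne : C.map π ≠ ⊥ := by
    intro h
    apply hCU
    rw [← hker, ← Subgroup.map_eq_bot_iff]
    exact h
  obtain ⟨A, hAn, hAle, hAne, hA⟩ := psolvable_setup_in p
    (Cfsg.Agent.Helper20.isPSolvable_quotient p hG U) (C.map π) hNn hNne
  haveI := hAn
  set L := A.comap π with hL
  haveI hLn : L.Normal := hAn.comap π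
  rcases hA with hAp | hAc
  · -- `A` a `p`-group: then its preimage is a normal `p`-subgroup
    have hLp : IsPGroup p L := hAp.comap_of_ker_isPGroup π (by rw [hker]; exact hUp)
    have hLU : L ≤ U := Cfsg.Agent.Helper9.le_pCore hLn hLp
    apply hAne
    rw [eq_bot_iff]
    intro a ha
    obtain ⟨x, rfl⟩ := hπs a
    have hx : x ∈ U := hLU ha
    rw [Subgroup.mem_bot]
    exact (QuotientGroup.eq_one_iff x).mpr hx
  · set X := L ⊓ C with hX
    haveI hXn : X.Normal := inferInstance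
    have hidx : ¬ p ∣ (X ⊓ U).relIndex X := by
      rw [Subgroup.inf_relIndex_left]
      have h1 : U.relIndex X = Nat.card (X.map π) := by
        rw [← Subgroup.relIndex_ker, hker]
      rw [h1]
      have h2 : X.map π ≤ A := by
        rw [Subgroup.map_le_iff_le_comap]
        exact inf_le_left
      have h3 : (Nat.card (X.map π)).Coprime p :=
        Nat.Coprime.coprime_dvd_left (Subgroup.card_dvd_of_le h2) hAc
      exact fun h => (Nat.Prime.coprime_iff_not_dvd hpp).mp h3.symm h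
    obtain ⟨Kc, hKcn, hKccop, hKcmem⟩ := exists_normal_pprime_of_central_sylow p X (X ⊓ U) hXn
      (hUp.to_le inf_le_right)
      (fun z hz x hx => Subgroup.mem_centralizer_iff.mp (Subgroup.mem_inf.mp hx).2 z
        (Subgroup.mem_inf.mp hz).2) hidx
    have hKc : Kc ≤ Cfsg.pPrimeCore p G := Cfsg.Agent.Helper9.le_pPrimeCore hKcn hKccop
    rw [hO] at hKc
    have hXp : IsPGroup p X := by
      apply isPGroup_of_pprime_trivial
      intro x hx hcop
      exact Subgroup.mem_bot.mp (hKc (hKcmem x hx hcop))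
    have hXU : X ≤ U := Cfsg.Agent.Helper9.le_pCore hXn hXp
    apply hAne
    rw [eq_bot_iff]
    intro a ha
    obtain ⟨c, hc, rfl⟩ := Subgroup.mem_map.mp (hAle ha)
    have hcU : c ∈ U := hXU (Subgroup.mem_inf.mpr ⟨ha, hc⟩)
    rw [Subgroup.mem_bot]
    exact (QuotientGroup.eq_one_iff c).mpr hcU

end Cfsg.Agent.Helper4
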