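import Mathlib

open Matrix

namespace Cfsg.Agent.Helper4

theorem rank_even_of_skew {F : Type*} [Field F] (h2 : (2 : F) ≠ 0) {n : ℕ}
    (S : Matrix (Fin n) (Fin n) F) (hS : Sᵀ = -S) : Even S.rank := by
  classical
  let B : LinearMap.BilinForm F (Fin n → F) := Matrix.toBilin' S
  have hB : ∀ u v : Fin n → F, B u v = u ⬝ᵥ (S *ᵥ v) :=
    fun u v => Matrix.toBilin'_apply' S u v
  have hskew : ∀ u v : Fin n → F, B u v = -B v u := by
    intro u v
    rw [hB, hB, Matrix.dotProduct_mulVec, ← Matrix.mulVec_transpose, hS, Matrix.neg_mulVec,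
      neg_dotProduct, dotProduct_comm (S *ᵥ u) v]
  set f : (Fin n → F) →ₗ[F] (Fin n → F) := S.mulVecLin with hf
  obtain ⟨W, hW⟩ := Submodule.exists_isCompl (LinearMap.ker f)
  have h1 : Module.finrank F (LinearMap.range f) + Module.finrank F (LinearMap.ker f) = n := by
    have := LinearMap.finrank_range_add_finrank_ker f
    simpa using this
  have h3 : Module.finrank F (LinearMap.ker f) + Module.finrank F W = n := by
    have := Submodule.finrank_add_eq_of_isCompl hW
    simpa using this
  have hrk : S.rank = Module.finrank F (LinearMap.range f) := rfl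
  have hr : Module.finrank F W = S.rank := by omega
  have hnd : ∀ w ∈ W, (∀ u ∈ W, B u w = 0) → w = 0 := by
    intro w hw h
    have hall : ∀ v : Fin n → F, B v w = 0 := by
      intro v
      have hv : v ∈ LinearMap.ker f ⊔ W := by rw [hW.sup_eq_top]; exact Submodule.mem_top
      obtain ⟨k, hk, u, hu, rfl⟩ := Submodule.mem_sup.mp hv
      have hk0 : S *ᵥ k = 0 := by
        have := LinearMap.mem_ker.mp hk
        simpa [hf] using this
      have hkw : B k w = 0 := by
        rw [hskew, hB, hk0]; simp
      rw [map_add, LinearMap.add_apply, hkw, h u hu, add_zero]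
    have hSw : S *ᵥ w = 0 := by
      funext i
      have := hall (Pi.single i 1)
      rw [hB] at this
      simpa using this
    have hker : w ∈ LinearMap.ker f := by
      rw [LinearMap.mem_ker]
      simpa [hf] using hSw
    have hmem : w ∈ LinearMap.ker f ⊓ W := Submodule.mem_inf.mpr ⟨hker, hw⟩
    rw [hW.inf_eq_bot] at hmem
    simpa using hmem
  let b := Module.finBasis F W
  let G : Matrix (Fin (Module.finrank F W)) (Fin (Module.finrank F W)) F :=
    Matrix.of fun i j => B (b i : Fin n → F) (b j : Fin n → F)
  have hGskew : Gᵀ = -G := by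
    ext i j
    show B (b j : Fin n → F) (b i : Fin n → F) = -B (b i : Fin n → F) (b j : Fin n → F)
    exact hskew _ _
  have hdet : G.det ≠ 0 := by
    intro hdet
    obtain ⟨x, hx0, hx⟩ := Matrix.exists_mulVec_eq_zero_iff.mpr hdet
    apply hx0
    have e1 : ∀ c : Fin (Module.finrank F W) → F,
        ((∑ j, c j • b j : W) : Fin n → F) = ∑ j, c j • (b j : Fin n → F) := by
      intro c
      simp
    have hz : ((∑ j, x j • b j : W) : Fin n → F) = 0 := by
      apply hnd _ (Submodule.coe_mem _)
      intro u hu
      have h5 : ((∑ i, (b.repr ⟨u, hu⟩ i) • b i : W) : Fin n → F) = u :=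
        congrArg Subtype.val (b.sum_repr ⟨u, hu⟩)
      have hu'' : ∑ i, (b.repr ⟨u, hu⟩ i) • (b i : Fin n → F) = u :=
        (e1 _).symm.trans h5
      rw [← hu'']
      simp only [map_sum, LinearMap.sum_apply, map_smul, LinearMap.smul_apply]
      apply Finset.sum_eq_zero
      intro i _
      have hi : B (b i : Fin n → F) ((∑ j, x j • b j : W) : Fin n → F) = (G *ᵥ x) i := by
        rw [e1 x, map_sum]
        simp only [map_smul, smul_eq_mul]
        show _ = ∑ j, G i j * x j
        apply Finset.sum_congr rfl
        intro j _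
        show _ = B (b i : Fin n → F) (b j : Fin n → F) * x j
        rw [mul_comm]
      rw [hi, hx]; simp
    have hw0 : (∑ j, x j • b j : W) = 0 := Submodule.coe_eq_zero.mp hz
    have h0 := Fintype.linearIndependent_iff.mp b.linearIndependent x hw0
    funext j
    exact h0 j
  rw [← hr]
  by_contra hodd
  rw [Nat.not_even_iff_odd] at hodd
  have hd : G.det = -G.det := by
    conv_lhs => rw [← Matrix.det_transpose, hGskew, Matrix.det_neg, Fintype.card_fin,
      hodd.neg_one_pow, neg_one_mul]
  have h2d : (2 : F) * G.det = 0 := by linear_combination hd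
  exact hdet ((mul_eq_zero.mp h2d).resolve_left h2)

end Cfsg.Agent.Helper4
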