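import Mathlib

open Matrix

namespace Cfsg.Agent.Helper4

theorem h4jo_sum_single {F : Type*} [Field F] {d : ℕ} (g : Fin d → F) (x : ℕ)
    (h : ∀ c : Fin d, c.val ≠ x → g c = 0) :
    ∑ c, g c = if hx : x < d then g ⟨x, hx⟩ else 0 := by
  by_cases hx : x < d
  · rw [dif_pos hx]
    exact Fintype.sum_eq_single ⟨x, hx⟩ (fun c hc => h c (fun e => hc (Fin.ext e)))
  · rw [dif_neg hx]
    exact Finset.sum_eq_zero (fun c _ => h c (fun e => hx (e ▸ c.isLt)))

/-- The `k`-th power of the subdiagonal shift matrix. -/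
def h4joSh (F : Type*) [Field F] (d k : ℕ) : Matrix (Fin d) (Fin d) F :=
  Matrix.of fun a b => if a.val = b.val + k then 1 else 0

/-- The antidiagonal form with alternating signs. -/
def h4joM (F : Type*) [Field F] (d : ℕ) : Matrix (Fin d) (Fin d) F :=
  Matrix.of fun a b => if a.val + b.val + 1 = d then (-1 : F) ^ a.val else 0

theorem h4jo_sh_mul {F : Type*} [Field F] (d k : ℕ) :
    h4joSh F d k * h4joSh F d 1 = h4joSh F d (k + 1) := by
  ext a b
  have ha := a.isLt
  have hb := b.isLt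
  have h : ∑ c : Fin d, h4joSh F d k a c * h4joSh F d 1 c b =
      if hx : b.val + 1 < d then h4joSh F d k a ⟨b.val + 1, hx⟩ * h4joSh F d 1 ⟨b.val + 1, hx⟩ b
      else 0 :=
    h4jo_sum_single (fun c : Fin d => h4joSh F d k a c * h4joSh F d 1 c b) (b.val + 1) (by
      intro c hc
      simp [h4joSh, hc])
  refine Matrix.mul_apply.trans (h.trans ?_)
  simp only [h4joSh, Matrix.of_apply]
  split_ifs <;> first | (exfalso; omega) | simp

theorem h4jo_sh_pow {F : Type*} [Field F] (d k : ℕ) :
    (h4joSh F d 1) ^ k = h4joSh F d k := by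
  induction k with
  | zero =>
    rw [pow_zero]
    ext a b
    simp [h4joSh, Matrix.one_apply, Fin.ext_iff]
  | succ k ih => rw [pow_succ, ih, h4jo_sh_mul]

theorem h4jo_sh_zero {F : Type*} [Field F] (d k : ℕ) (h : d ≤ k) : h4joSh F d k = 0 := by
  ext a b
  have ha := a.isLt
  simp only [h4joSh, Matrix.of_apply, Matrix.zero_apply]
  rw [if_neg (by omega)]

theorem h4jo_sh_rank {F : Type*} [Field F] (d k : ℕ) : (h4joSh F d k).rank = d - k := by
  apply le_antisymm
  · let U : Matrix (Fin d) (Fin (d - k)) F :=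
      Matrix.of fun a c => if a.val = c.val + k then 1 else 0
    let V : Matrix (Fin (d - k)) (Fin d) F :=
      Matrix.of fun c b => if c.val = b.val then 1 else 0
    have hUV : U * V = h4joSh F d k := by
      ext a b
      have ha := a.isLt
      have hb := b.isLt
      have h : ∑ c : Fin (d - k), U a c * V c b =
          if hx : b.val < d - k then U a ⟨b.val, hx⟩ * V ⟨b.val, hx⟩ b else 0 :=
        h4jo_sum_single (fun c : Fin (d - k) => U a c * V c b) b.val (by
          intro c hc
          simp [V, hc])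
      refine Matrix.mul_apply.trans (h.trans ?_)
      simp only [U, V, h4joSh, Matrix.of_apply]
      split_ifs <;> first | (exfalso; omega) | simp
    rw [← hUV]
    calc (U * V).rank ≤ U.rank := Matrix.rank_mul_le_left U V
      _ ≤ Fintype.card (Fin (d - k)) := Matrix.rank_le_card_width U
      _ = d - k := Fintype.card_fin _
  · have hsub : (h4joSh F d k).submatrix
        (fun i : Fin (d - k) => (⟨i.val + k, by have := i.isLt; omega⟩ : Fin d))
        (fun i : Fin (d - k) => (⟨i.val, by have := i.isLt; omega⟩ : Fin d)) = 1 := by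
      ext i j
      simp [h4joSh, Matrix.one_apply, Fin.ext_iff]
    have h1 := Matrix.rank_submatrix_le (h4joSh F d k)
        (fun i : Fin (d - k) => (⟨i.val + k, by have := i.isLt; omega⟩ : Fin d))
        (fun i : Fin (d - k) => (⟨i.val, by have := i.isLt; omega⟩ : Fin d))
    rw [hsub, Matrix.rank_one, Fintype.card_fin] at h1
    exact h1

theorem h4jo_neg_one_pow_eq {F : Type*} [Field F] {a b : ℕ} (h : Even (a + b)) :
    (-1 : F) ^ a = (-1) ^ b := by
  rcases Nat.even_or_odd a with ha | ha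
  · have hb : Even b := by
      rw [Nat.even_add] at h
      exact h.mp ha
    rw [ha.neg_one_pow, hb.neg_one_pow]
  · have hb : Odd b := by
      rw [Nat.even_add] at h
      rw [← Nat.not_even_iff_odd] at ha ⊢
      exact fun hb => ha (h.mpr hb)
    rw [ha.neg_one_pow, hb.neg_one_pow]

theorem h4jo_M_symm {F : Type*} [Field F] (d : ℕ) (hd : Odd d) :
    (h4joM F d)ᵀ = h4joM F d := by
  ext a b
  simp only [h4joM, Matrix.transpose_apply, Matrix.of_apply]
  by_cases h : a.val + b.val + 1 = d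
  · have h' : b.val + a.val + 1 = d := by omega
    rw [if_pos h', if_pos h]
    obtain ⟨m, hm⟩ := hd
    exact h4jo_neg_one_pow_eq ⟨m, by omega⟩
  · have h' : ¬ (b.val + a.val + 1 = d) := by omega
    rw [if_neg h', if_neg h]

theorem h4jo_M_sq {F : Type*} [Field F] (d : ℕ) (hd : Odd d) :
    h4joM F d * h4joM F d = 1 := by
  ext a c
  have ha := a.isLt
  have hc := c.isLt
  obtain ⟨m, hm⟩ := hd
  have hx : d - 1 - a.val < d := by omega
  have h : ∑ b : Fin d, h4joM F d a b * h4joM F d b c =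
      if hx : d - 1 - a.val < d then
        h4joM F d a ⟨d - 1 - a.val, hx⟩ * h4joM F d ⟨d - 1 - a.val, hx⟩ c
      else 0 :=
    h4jo_sum_single (fun b : Fin d => h4joM F d a b * h4joM F d b c) (d - 1 - a.val) (by
      intro b hb
      have hb' : ¬ (a.val + b.val + 1 = d) := by omega
      simp [h4joM, hb'])
  refine Matrix.mul_apply.trans (h.trans ?_)
  rw [dif_pos hx]
  simp only [h4joM, Matrix.of_apply]
  have e1 : a.val + (d - 1 - a.val) + 1 = d := by omega
  rw [if_pos e1]
  by_cases hac : a = c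
  · have hv := congrArg Fin.val hac
    have e2 : d - 1 - a.val + c.val + 1 = d := by omega
    rw [if_pos e2, hac, Matrix.one_apply_eq, ← pow_add]
    exact Even.neg_one_pow ⟨m, by omega⟩
  · have hne := Fin.val_ne_of_ne hac
    have e2 : ¬ (d - 1 - a.val + c.val + 1 = d) := by omega
    rw [if_neg e2, Matrix.one_apply_ne hac, mul_zero]

theorem h4jo_NM {F : Type*} [Field F] (d : ℕ) :
    (h4joSh F d 1)ᵀ * h4joM F d = -(h4joM F d * h4joSh F d 1) := by
  ext a b
  have ha := a.isLt
  have hb := b.isLt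
  have h1 : ∑ c : Fin d, (h4joSh F d 1)ᵀ a c * h4joM F d c b =
      if hx : a.val + 1 < d then
        (h4joSh F d 1)ᵀ a ⟨a.val + 1, hx⟩ * h4joM F d ⟨a.val + 1, hx⟩ b
      else 0 :=
    h4jo_sum_single (fun c : Fin d => (h4joSh F d 1)ᵀ a c * h4joM F d c b) (a.val + 1) (by
      intro c hc
      simp [h4joSh, hc])
  have h2 : ∑ c : Fin d, h4joM F d a c * h4joSh F d 1 c b =
      if hx : b.val + 1 < d then
        h4joM F d a ⟨b.val + 1, hx⟩ * h4joSh F d 1 ⟨b.val + 1, hx⟩ b
      else 0 :=
    h4jo_sum_single (fun c : Fin d => h4joM F d a c * h4joSh F d 1 c b) (b.val + 1) (by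
      intro c hc
      simp [h4joSh, hc])
  rw [Matrix.neg_apply, Matrix.mul_apply, Matrix.mul_apply, h1, h2]
  simp only [h4joSh, h4joM, Matrix.transpose_apply, Matrix.of_apply]
  by_cases hx : a.val + b.val + 2 = d
  · have e1 : a.val + 1 < d := by omega
    have e2 : b.val + 1 < d := by omega
    have e3 : a.val + 1 + b.val + 1 = d := by omega
    have e4 : a.val + (b.val + 1) + 1 = d := by omega
    rw [dif_pos e1, dif_pos e2, if_pos e3, if_pos e4]
    simp [pow_succ]
  · have e3 : ¬ (a.val + 1 + b.val + 1 = d) := by omega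
    have e4 : ¬ (a.val + (b.val + 1) + 1 = d) := by omega
    simp [e3, e4]

theorem odd_block_form {F : Type*} [Field F] (h2 : (2 : F) ≠ 0) (d : ℕ) (hd : Odd d) :
    ∃ A M : Matrix (Fin d) (Fin d) F, Mᵀ = M ∧ M.det ≠ 0 ∧ Aᵀ * M * A = M ∧
      ∀ k, ((A - 1) ^ k).rank = d - k := by
  classical
  set N : Matrix (Fin d) (Fin d) F := h4joSh F d 1 with hN
  set M : Matrix (Fin d) (Fin d) F := h4joM F d with hM
  set R : Matrix (Fin d) (Fin d) F := ∑ i ∈ Finset.range d, N ^ i with hR
  have hNd : N ^ d = 0 := by rw [hN, h4jo_sh_pow, h4jo_sh_zero d d le_rfl]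
  have hR1 : (1 - N) * R = 1 := by rw [hR, mul_neg_geom_sum, hNd, sub_zero]
  have hR2 : R * (1 - N) = 1 := by rw [hR, geom_sum_mul_neg, hNd, sub_zero]
  have hNM : Nᵀ * M = -(M * N) := h4jo_NM d
  have hMs : Mᵀ = M := h4jo_M_symm d hd
  have hMdet : M.det ≠ 0 := Matrix.det_ne_zero_of_left_inverse (h4jo_M_sq d hd)
  have hT : Rᵀ * (1 - Nᵀ) = 1 := by
    have := congrArg Matrix.transpose hR1
    simpa [Matrix.transpose_mul, Matrix.transpose_sub] using this
  have h_a : (1 + Nᵀ) * M = M * (1 - N) := by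
    rw [Matrix.add_mul, Matrix.one_mul, hNM, Matrix.mul_sub, Matrix.mul_one, sub_eq_add_neg]
  have h_b : (1 - Nᵀ) * M = M * (1 + N) := by
    rw [Matrix.sub_mul, Matrix.one_mul, hNM, Matrix.mul_add, Matrix.mul_one, sub_neg_eq_add]
  refine ⟨(1 + N) * R, M, hMs, hMdet, ?_, ?_⟩
  · calc ((1 + N) * R)ᵀ * M * ((1 + N) * R)
        = Rᵀ * ((1 + Nᵀ) * M) * ((1 + N) * R) := by
          simp only [Matrix.transpose_mul, Matrix.transpose_add, Matrix.transpose_one,
            Matrix.mul_assoc]
      _ = Rᵀ * (M * (1 - N)) * ((1 + N) * R) := by rw [h_a]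
      _ = Rᵀ * (M * (1 + N)) * ((1 - N) * R) := by noncomm_ring
      _ = Rᵀ * (M * (1 + N)) := by rw [hR1, Matrix.mul_one]
      _ = Rᵀ * ((1 - Nᵀ) * M) := by rw [h_b]
      _ = M := by rw [← Matrix.mul_assoc, hT, Matrix.one_mul]
  · intro k
    have hA1 : (1 + N) * R - 1 = N * ((2 : F) • R) := by
      have h0 : (1 + N) * R - 1 = (1 + N) * R - (1 - N) * R := by rw [hR1]
      rw [h0, two_smul]
      noncomm_ring
    have hNR : Commute N R := by
      rw [hR]
      exact Commute.sum_right _ _ _ (fun i _ => (Commute.refl N).pow_right i)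
    have hcomm : Commute N ((2 : F) • R) := hNR.smul_right (2 : F)
    have hRdet : R.det ≠ 0 := Matrix.det_ne_zero_of_right_inverse hR2
    have hQdet : ((2 : F) • R).det ≠ 0 := by
      rw [Matrix.det_smul]
      exact mul_ne_zero (pow_ne_zero _ h2) hRdet
    rw [hA1, hcomm.mul_pow, Matrix.rank_mul_eq_left_of_isUnit_det _ _ (by
      rw [Matrix.det_pow]; exact (isUnit_iff_ne_zero.mpr hQdet).pow k), hN, h4jo_sh_pow,
      h4jo_sh_rank]

end Cfsg.Agent.Helper4
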