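import Mathlib

set_option autoImplicit false

namespace Cfsg.Agent.Helper4

open scoped commutatorElement

theorem le_normalizer_sup_of_forall {G : Type*} [Group G] (S A B : Subgroup G)
    (hA : ∀ s ∈ S, ∀ a ∈ A, s * a * s⁻¹ ∈ A ⊔ B) (hB : ∀ s ∈ S, ∀ b ∈ B, s * b * s⁻¹ ∈ A ⊔ B) :
    S ≤ Subgroup.normalizer ((A ⊔ B : Subgroup G) : Set G) := by
  rw [Subgroup.le_normalizer_iff]
  intro s hs k hk
  have h : A ⊔ B ≤ (A ⊔ B).comap (MulAut.conj s).toMonoidHom := by
    refine sup_le (fun a ha => ?_) (fun b hb => ?_)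
    · rw [Subgroup.mem_comap]; simpa using hA s hs a ha
    · rw [Subgroup.mem_comap]; simpa using hB s hs b hb
  have := h hk
  rw [Subgroup.mem_comap] at this
  simpa using this

theorem sup_iterComm_isSubnormal {G : Type*} [Group G] (H : Subgroup G) (m : ℕ) :
    (H ⊔ (fun K : Subgroup G => ⁅K, H⁆)^[m] ⊤).IsSubnormal := by
  induction m with
  | zero => simp
  | succ m ih =>
    rw [Function.iterate_succ_apply']
    generalize (fun K : Subgroup G => ⁅K, H⁆)^[m] ⊤ = L at ih ⊢
    show (H ⊔ ⁅L, H⁆).IsSubnormal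
    have hle : H ⊔ ⁅L, H⁆ ≤ H ⊔ L :=
      sup_le le_sup_left ((Subgroup.commutator_le_sup L H).trans (by rw [sup_comm]))
    refine Subgroup.IsSubnormal.step _ _ hle ih ?_
    apply Subgroup.normal_subgroupOf_of_le_normalizer
    refine sup_le ?_ ?_
    · apply le_normalizer_sup_of_forall
      · intro h hh a ha
        exact Subgroup.mem_sup_left (H.mul_mem (H.mul_mem hh ha) (H.inv_mem hh))
      · intro h hh b hb
        exact Subgroup.mem_sup_right
          ((Subgroup.le_normalizer_iff.mp (Subgroup.normalizer_commutator_ge_right L H)) h hh b hb)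
    · apply le_normalizer_sup_of_forall
      · intro l hl a ha
        have e : l * a * l⁻¹ = ⁅l, a⁆ * a := by
          rw [commutatorElement_def]; group
        rw [e]
        exact Subgroup.mul_mem _ (Subgroup.mem_sup_right (Subgroup.commutator_mem_commutator hl ha))
          (Subgroup.mem_sup_left ha)
      · intro l hl b hb
        exact Subgroup.mem_sup_right
          ((Subgroup.le_normalizer_iff.mp (Subgroup.normalizer_commutator_ge_left L H)) l hl b hb)

theorem iterComm_mono {G : Type*} [Group G] {H K : Subgroup G} (h : H ≤ K) (m : ℕ) :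
    (fun L : Subgroup G => ⁅L, H⁆)^[m] ⊤ ≤ (fun L : Subgroup G => ⁅L, K⁆)^[m] ⊤ := by
  induction m with
  | zero => exact le_rfl
  | succ m ih =>
    rw [Function.iterate_succ_apply', Function.iterate_succ_apply']
    exact Subgroup.commutator_mono ih h

theorem exists_iterComm_le_of_isSubnormal {G : Type*} [Group G] (H : Subgroup G)
    (hH : H.IsSubnormal) : ∃ m : ℕ, (fun K : Subgroup G => ⁅K, H⁆)^[m] ⊤ ≤ H := by
  induction hH with
  | top => exact ⟨0, le_rfl⟩
  | step H K h_le hSubn hN ih =>
    obtain ⟨m, hm⟩ := ih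
    refine ⟨m + 1, ?_⟩
    rw [Function.iterate_succ_apply']
    have h1 : (fun L : Subgroup G => ⁅L, H⁆)^[m] ⊤ ≤ K := (iterComm_mono h_le m).trans hm
    refine (Subgroup.commutator_mono h1 le_rfl).trans ?_
    rw [Subgroup.commutator_le]
    intro k hk h hh
    have hn := (Subgroup.normal_subgroupOf_iff_le_normalizer h_le).mp hN
    have := (Subgroup.le_normalizer_iff.mp hn) k hk h hh
    rw [commutatorElement_def]
    exact H.mul_mem this (H.inv_mem hh)

theorem isSubnormal_iff_iterComm_le {G : Type*} [Group G] (H : Subgroup G) :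
    H.IsSubnormal ↔ ∃ m : ℕ, (fun K : Subgroup G => ⁅K, H⁆)^[m] ⊤ ≤ H := by
  constructor
  · exact exists_iterComm_le_of_isSubnormal H
  · rintro ⟨m, hm⟩
    have := sup_iterComm_isSubnormal H m
    rwa [sup_eq_left.mpr hm] at this

end Cfsg.Agent.Helper4
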