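import Mathlib
import Cfsg.Agent.Helper1.SZ
import Cfsg.Agent.Helper4.SubnormalComm

set_option autoImplicit false

namespace Cfsg.Agent.Helper4

universe u

open scoped Pointwise

/-- A (possibly trivial) minimal normal subgroup normalizes every subnormal subgroup. -/
theorem minNormal_le_normalizer_of_isSubnormal_aux : ∀ (c : ℕ) (G : Type u) [Group G] [Finite G],
    Nat.card G = c → ∀ (S M : Subgroup G), S.IsSubnormal → M.Normal →
    (∀ K : Subgroup G, K.Normal → K ≤ M → K = ⊥ ∨ K = M) →
    M ≤ Subgroup.normalizer (S : Set G) := by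
  intro c
  induction c using Nat.strong_induction_on with
  | _ c ih =>
    intro G _ _ hc S M hS hMn hMmin
    by_cases hST : S = ⊤
    · subst hST
      intro x _
      rw [Subgroup.mem_normalizer_iff]
      intro h
      simp
    by_cases hMbot : M = ⊥
    · rw [hMbot]; exact bot_le
    obtain ⟨N, hNn, hSN, hNlt⟩ := hS.exists_normal_and_le_and_lt_top_of_ne hST
    by_cases hMN : M ⊓ N = ⊥
    · rw [Subgroup.le_normalizer_iff]
      intro x hx s hs
      have hcomm := Subgroup.commute_of_normal_of_disjoint M N hMn hNn (disjoint_iff.mpr hMN)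
        x s hx (hSN hs)
      have : x * s * x⁻¹ = s := by rw [hcomm.eq, mul_inv_cancel_right]
      rw [this]; exact hs
    · have hMleN : M ≤ N := by
        haveI := hMn; haveI := hNn
        rcases hMmin (M ⊓ N) inferInstance inf_le_left with h | h
        · exact absurd h hMN
        · exact inf_eq_left.mp h
      have hcardN : Nat.card N < c := by
        rw [← hc]
        have h1 : Nat.card N ≤ Nat.card G := Subgroup.card_le_card_group N
        have h2 : Nat.card N ≠ Nat.card G :=
          fun h => hNlt.ne ((Subgroup.card_eq_iff_eq_top N).mp h)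
        omega
      have hne : M.subgroupOf N ≠ ⊥ := by
        intro h
        rw [Subgroup.subgroupOf_eq_bot] at h
        exact hMN (disjoint_iff.mp h)
      obtain ⟨M₁, hM₁⟩ := exists_minimal_of_wellFoundedLT
        (fun K : Subgroup N => K.Normal ∧ K ≠ ⊥ ∧ K ≤ M.subgroupOf N)
        ⟨M.subgroupOf N, hMn.subgroupOf N, hne, le_rfl⟩
      obtain ⟨hM₁n, hM₁ne, hM₁le⟩ := hM₁.prop
      have hM₁min' : ∀ K : Subgroup N, K.Normal → K ≤ M₁ → K = ⊥ ∨ K = M₁ := by
        intro K hKn hKle
        by_cases hK : K = ⊥
        · exact Or.inl hK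
        · exact Or.inr (le_antisymm hKle (hM₁.le_of_le ⟨hKn, hK, hKle.trans hM₁le⟩ hKle))
      have key : ∀ (g : G) (y : N), y ∈ M₁ → ∀ s ∈ S,
          (g * (y : G) * g⁻¹) * s * (g * (y : G) * g⁻¹)⁻¹ ∈ S := by
        intro g y hy s hs
        haveI := hNn
        have hsub : ((S.subgroupOf N).comap
            (MulAut.conjNormal g : MulAut N).toMonoidHom).IsSubnormal :=
          (hS.subgroupOf).comap _
        have hle := ih (Nat.card N) hcardN N rfl _ M₁ hsub hM₁n hM₁min'
        have hy' := hle hy
        rw [Subgroup.mem_normalizer_iff] at hy'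
        have hs'N : g⁻¹ * s * g ∈ N := by
          have := hNn.conj_mem s (hSN hs) g⁻¹
          simpa using this
        have h0 : (⟨g⁻¹ * s * g, hs'N⟩ : N) ∈ (S.subgroupOf N).comap
            (MulAut.conjNormal g : MulAut N).toMonoidHom := by
          rw [Subgroup.mem_comap, Subgroup.mem_subgroupOf]
          have : (((MulAut.conjNormal g : MulAut N).toMonoidHom ⟨g⁻¹ * s * g, hs'N⟩ : N) : G)
              = s := by
            show ((MulAut.conjNormal g ⟨g⁻¹ * s * g, hs'N⟩ : N) : G) = _
            rw [MulAut.conjNormal_apply]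
            group
          rw [this]; exact hs
        have h1 := (hy' ⟨g⁻¹ * s * g, hs'N⟩).mp h0
        rw [Subgroup.mem_comap, Subgroup.mem_subgroupOf] at h1
        have : (((MulAut.conjNormal g : MulAut N).toMonoidHom
            (y * ⟨g⁻¹ * s * g, hs'N⟩ * y⁻¹) : N) : G)
            = (g * (y : G) * g⁻¹) * s * (g * (y : G) * g⁻¹)⁻¹ := by
          show ((MulAut.conjNormal g (y * ⟨g⁻¹ * s * g, hs'N⟩ * y⁻¹) : N) : G) = _
          rw [MulAut.conjNormal_apply]
          simp only [Subgroup.coe_mul, Subgroup.coe_inv]
          group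
        rw [this] at h1; exact h1
      have hM₀le : M₁.map N.subtype ≤ M := by
        rintro _ ⟨y, hy, rfl⟩
        exact hM₁le hy
      have hTle : Subgroup.normalClosure ((M₁.map N.subtype : Subgroup G) : Set G) ≤ M := by
        haveI := hMn
        exact Subgroup.normalClosure_le_normal hM₀le
      have hTne : Subgroup.normalClosure ((M₁.map N.subtype : Subgroup G) : Set G) ≠ ⊥ := by
        intro h
        apply hM₁ne
        rw [eq_bot_iff]
        intro y hy
        have : (y : G) ∈ Subgroup.normalClosure ((M₁.map N.subtype : Subgroup G) : Set G) :=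
          Subgroup.subset_normalClosure ⟨y, hy, rfl⟩
        rw [h, Subgroup.mem_bot] at this
        rw [Subgroup.mem_bot]
        exact Subtype.ext this
      have hTeq : Subgroup.normalClosure ((M₁.map N.subtype : Subgroup G) : Set G) = M := by
        rcases hMmin _ Subgroup.normalClosure_normal hTle with h | h
        · exact absurd h hTne
        · exact h
      rw [← hTeq]
      show Subgroup.closure _ ≤ _
      rw [Subgroup.closure_le]
      intro x hx
      rw [Group.mem_conjugatesOfSet_iff] at hx
      obtain ⟨z, hz, hconj⟩ := hx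
      obtain ⟨y, hy, rfl⟩ := hz
      obtain ⟨g, hg⟩ := isConj_iff.mp hconj
      subst hg
      rw [SetLike.mem_coe, Subgroup.mem_normalizer_iff]
      intro s
      constructor
      · intro hs
        exact key g y hy s hs
      · intro hs
        have := key g y⁻¹ (M₁.inv_mem hy) _ hs
        simp only [Subgroup.coe_inv, Subgroup.coe_subtype] at this
        convert this using 1
        group

theorem isSubnormal_sup_aux : ∀ (c : ℕ) (G : Type u) [Group G] [Finite G], Nat.card G = c →
    ∀ (A B : Subgroup G), A.IsSubnormal → B.IsSubnormal → (A ⊔ B).IsSubnormal := by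
  intro c
  induction c using Nat.strong_induction_on with
  | _ c ih =>
    intro G _ _ hc A B hA hB
    rcases subsingleton_or_nontrivial G with hs | hnt
    · have : A ⊔ B = ⊤ := by
        rw [eq_top_iff]; intro x _; rw [Subsingleton.elim x 1]; exact Subgroup.one_mem _
      rw [this]; exact Subgroup.IsSubnormal.top
    · obtain ⟨M, hM⟩ := exists_minimal_of_wellFoundedLT
        (fun K : Subgroup G => K.Normal ∧ K ≠ ⊥) ⟨⊤, Subgroup.normal_top, top_ne_bot⟩
      obtain ⟨hMn, hMne⟩ := hM.prop
      have hMmin : ∀ K : Subgroup G, K.Normal → K ≤ M → K = ⊥ ∨ K = M := by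
        intro K hKn hKle
        by_cases hK : K = ⊥
        · exact Or.inl hK
        · exact Or.inr (le_antisymm hKle (hM.le_of_le ⟨hKn, hK⟩ hKle))
      have hMA := minNormal_le_normalizer_of_isSubnormal_aux _ G rfl A M hA hMn hMmin
      have hMB := minNormal_le_normalizer_of_isSubnormal_aux _ G rfl B M hB hMn hMmin
      haveI := hMn
      have hlt : Nat.card (G ⧸ M) < c := by
        rw [← hc]; exact Cfsg.Agent.Helper1.card_quotient_lt_of_ne_bot M hMne
      have hq := ih _ hlt (G ⧸ M) rfl (A.map (QuotientGroup.mk' M)) (B.map (QuotientGroup.mk' M))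
        (hA.map (QuotientGroup.mk'_surjective M)) (hB.map (QuotientGroup.mk'_surjective M))
      have hL : ((A ⊔ B) ⊔ M).IsSubnormal := by
        have h1 := hq.comap (QuotientGroup.mk' M)
        rw [← Subgroup.map_sup, Subgroup.comap_map_eq, QuotientGroup.ker_mk'] at h1
        exact h1
      have hnorm : (A ⊔ B) ⊔ M ≤ Subgroup.normalizer ((A ⊔ B : Subgroup G) : Set G) := by
        refine sup_le Subgroup.le_normalizer ?_
        apply le_normalizer_sup_of_forall
        · intro s hs a ha
          exact (le_sup_left : A ≤ A ⊔ B) (Subgroup.le_normalizer_iff.mp hMA s hs a ha)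
        · intro s hs b hb
          exact (le_sup_right : B ≤ A ⊔ B) (Subgroup.le_normalizer_iff.mp hMB s hs b hb)
      exact Subgroup.IsSubnormal.step _ _ le_sup_left hL
        (Subgroup.normal_subgroupOf_of_le_normalizer hnorm)

theorem isSubnormal_sup {G : Type*} [Group G] [Finite G] (A B : Subgroup G)
    (hA : A.IsSubnormal) (hB : B.IsSubnormal) : (A ⊔ B).IsSubnormal :=
  isSubnormal_sup_aux _ G rfl A B hA hB

theorem isSubnormal_sSup {G : Type*} [Group G] [Finite G] (S : Set (Subgroup G))
    (hS : ∀ U ∈ S, U.IsSubnormal) : (sSup S).IsSubnormal := by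
  have hfin : S.Finite := Set.toFinite S
  revert hS
  refine Set.Finite.induction_on (motive := fun S _ => (∀ U ∈ S, U.IsSubnormal) →
    (sSup S).IsSubnormal) S hfin ?_ ?_
  · intro _; rw [sSup_empty]; exact Subgroup.IsSubnormal.bot
  · intro a s _ _ ih h
    rw [sSup_insert]
    exact isSubnormal_sup _ _ (h a (Set.mem_insert a s))
      (ih (fun U hU => h U (Set.mem_insert_of_mem a hU)))

end Cfsg.Agent.Helper4
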