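import Mathlib
import Cfsg.Agent.S0539

set_option autoImplicit false

namespace Cfsg.Agent.Helper4

open scoped Pointwise

/-- Relative version of S0539: a conjugation-closed family of subnormal subgroups of `V`. -/
theorem rel_family_normalizes {G : Type*} [Group G] [Finite G] (V : Subgroup G)
    (𝒮 𝒮₀ : Set (Subgroup G)) (hle : ∀ B ∈ 𝒮, B ≤ V)
    (hsn : ∀ B ∈ 𝒮, (B.subgroupOf V).IsSubnormal)
    (hconj : ∀ B ∈ 𝒮, ∀ v ∈ V, MulAut.conj v • B ∈ 𝒮) (h₀ : 𝒮₀ ⊂ 𝒮) :
    ∃ X ∈ 𝒮, X ∉ 𝒮₀ ∧ X ≤ Subgroup.normalizer ((sSup 𝒮₀ : Subgroup G) : Set G) := by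
  obtain ⟨X', hX'S, hX'n, hX'le⟩ := Cfsg.Agent.S0539.result (G := V)
    {Y : Subgroup V | Y.map V.subtype ∈ 𝒮} {Y : Subgroup V | Y.map V.subtype ∈ 𝒮₀}
    (by
      intro Y hY
      have h := hsn _ hY
      have e : (Y.map V.subtype).subgroupOf V = Y :=
        Subgroup.comap_map_eq_self_of_injective V.subtype_injective Y
      rwa [e] at h)
    (by
      intro Y hY v
      show (MulAut.conj v • Y).map V.subtype ∈ 𝒮
      have : (MulAut.conj v • Y).map V.subtype = MulAut.conj (v : G) • (Y.map V.subtype) := by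
        ext x; constructor
        · rintro ⟨_, ⟨y, hy, rfl⟩, rfl⟩
          exact ⟨V.subtype y, ⟨y, hy, rfl⟩, by simp⟩
        · rintro ⟨_, ⟨y, hy, rfl⟩, rfl⟩
          exact ⟨MulAut.conj v • y, ⟨y, hy, rfl⟩, by simp⟩
      rw [this]
      exact hconj _ hY v v.2)
    (by
      constructor
      · intro Y hY; exact h₀.1 hY
      · intro hsub
        apply h₀.2
        intro B hB
        have hBV := hle B hB
        have h' : (B.subgroupOf V).map V.subtype ∈ 𝒮₀ :=
          hsub (show (B.subgroupOf V).map V.subtype ∈ 𝒮 by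
            rw [Subgroup.map_subgroupOf_eq_of_le hBV]; exact hB)
        rwa [Subgroup.map_subgroupOf_eq_of_le hBV] at h')
  refine ⟨X'.map V.subtype, hX'S, hX'n, ?_⟩
  have hsup : (sSup {Y : Subgroup V | Y.map V.subtype ∈ 𝒮₀}).map V.subtype = sSup 𝒮₀ := by
    apply le_antisymm
    · rw [Subgroup.map_le_iff_le_comap]
      apply sSup_le
      intro Y hY
      rw [← Subgroup.map_le_iff_le_comap]
      exact le_sSup hY
    · apply sSup_le
      intro B hB
      have hBV := hle B (h₀.1 hB)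
      have h1 : B.subgroupOf V ∈ {Y : Subgroup V | Y.map V.subtype ∈ 𝒮₀} := by
        show (B.subgroupOf V).map V.subtype ∈ 𝒮₀
        rw [Subgroup.map_subgroupOf_eq_of_le hBV]; exact hB
      calc B = (B.subgroupOf V).map V.subtype := (Subgroup.map_subgroupOf_eq_of_le hBV).symm
        _ ≤ _ := Subgroup.map_mono (le_sSup h1)
  rw [← hsup]
  exact (Subgroup.map_mono hX'le).trans (Subgroup.le_normalizer_map _)

theorem zipper_aux {G : Type*} [Group G] [Finite G] (A : Subgroup G) (U : Set (Subgroup G))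
    (S : Subgroup G → Set (Subgroup G))
    (hS : ∀ V B : Subgroup G, B ∈ S V ↔ (∃ g : G, B = MulAut.conj g • A) ∧ B ≤ V ∧
      (B.subgroupOf V).IsSubnormal)
    (h2 : ∀ V ∈ U, ∀ W ∈ U, ∀ B ∈ S W, B ≤ V → B ∈ S V)
    (V W M : Subgroup G) (hV : V ∈ U) (hM : M ∈ U)
    (hVmax : ∀ Y ∈ U, V ≤ Y → Y = V)
    (hNM : Subgroup.normalizer ((sSup (S V ∩ S W) : Subgroup G) : Set G) ≤ M)
    (hbest : M ≠ V → (S V ∩ S M).ncard ≤ (S V ∩ S W).ncard) : V = M := by
  by_contra hVM
  have hconjS : ∀ B ∈ S V, ∀ v ∈ V, MulAut.conj v • B ∈ S V := by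
    intro B hB v hv
    obtain ⟨⟨g, hg⟩, hBV, hBsn⟩ := (hS V B).mp hB
    rw [hS]
    refine ⟨⟨v * g, by rw [hg, map_mul, mul_smul]⟩, ?_, ?_⟩
    · rintro _ ⟨w, hw, rfl⟩
      have := V.mul_mem (V.mul_mem hv (hBV hw)) (V.inv_mem hv)
      simpa using this
    · have e : (MulAut.conj v • B).subgroupOf V =
          (B.subgroupOf V).comap (MulAut.conj (⟨v, hv⟩ : V)⁻¹).toMonoidHom := by
        ext y
        rw [Subgroup.mem_subgroupOf, Subgroup.mem_comap, Subgroup.mem_subgroupOf,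
          Subgroup.mem_pointwise_smul_iff_inv_smul_mem]
        have : (MulAut.conj v)⁻¹ • (y : G) =
            (((MulAut.conj (⟨v, hv⟩ : V)⁻¹).toMonoidHom y : V) : G) := by
          rw [MulAut.smul_def, ← map_inv, MulAut.conj_apply]
          show _ = (((⟨v, hv⟩ : V)⁻¹ * y * ((⟨v, hv⟩ : V)⁻¹)⁻¹ : V) : G)
          simp
        rw [this]
      rw [e]
      exact hBsn.comap _
  have hJle : ∀ C ∈ S V ∩ S W, C ≤ M :=
    fun C hC => (le_sSup hC).trans (Subgroup.le_normalizer.trans hNM)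
  by_cases hD : S V ⊆ S W
  · apply hVM
    have hVN : V ≤ Subgroup.normalizer ((sSup (S V ∩ S W) : Subgroup G) : Set G) := by
      rw [Subgroup.le_normalizer_iff]
      intro v hv k hk
      have hle : sSup (S V ∩ S W) ≤ (sSup (S V ∩ S W)).comap (MulAut.conj v).toMonoidHom := by
        apply sSup_le
        intro B hB u hu
        rw [Subgroup.mem_comap]
        have h1 : MulAut.conj v • B ∈ S V := hconjS B hB.1 v hv
        have h4 : (MulAut.conj v).toMonoidHom u ∈ MulAut.conj v • B := ⟨u, hu, rfl⟩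
        have h5 : MulAut.conj v • B ∈ S V ∩ S W := ⟨h1, hD h1⟩
        exact le_sSup h5 h4
      have := hle hk
      rw [Subgroup.mem_comap] at this
      simpa using this
    exact (hVmax M hM (hVN.trans hNM)).symm
  · rw [Set.not_subset] at hD
    obtain ⟨B₀, hB₀V, hB₀W⟩ := hD
    have hss : S V ∩ S W ⊂ S V := ⟨Set.inter_subset_left, fun h => hB₀W (h hB₀V).2⟩
    obtain ⟨X₀, hX₀S, hX₀n, hX₀le⟩ := rel_family_normalizes V (S V) (S V ∩ S W)
      (fun B hB => ((hS V B).mp hB).2.1) (fun B hB => ((hS V B).mp hB).2.2) hconjS hss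
    have hX₀M : X₀ ≤ M := hX₀le.trans hNM
    have hX₀SM : X₀ ∈ S M := h2 M hM V hV X₀ hX₀S hX₀M
    have hsub : S V ∩ S W ⊂ S V ∩ S M := by
      refine ⟨fun C hC => ⟨hC.1, h2 M hM V hV C hC.1 (hJle C hC)⟩,
        fun h => hX₀n (h ⟨hX₀S, hX₀SM⟩)⟩
    have hlt := Set.ncard_lt_ncard hsub (Set.toFinite _)
    have := hbest (fun h => hVM h.symm)
    omega

end Cfsg.Agent.Helper4
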