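import Mathlib
import Cfsg.Agent.Helper4.Zipper
import Cfsg.Agent.Helper4.SubnormalComm

set_option autoImplicit false

namespace Cfsg.Agent.Helper4

open scoped Pointwise

theorem isSubnormal_of_isNilpotent {N : Type*} [Group N] [Group.IsNilpotent N] (H : Subgroup N) :
    H.IsSubnormal := by
  rw [isSubnormal_iff_iterComm_le]
  refine ⟨Group.nilpotencyClass N, ?_⟩
  have key : ∀ m, (fun K : Subgroup N => ⁅K, H⁆)^[m] ⊤ ≤
      (⊤ : Subgroup N).lowerCentralSeries m := by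
    intro m
    induction m with
    | zero => exact le_rfl
    | succ m ih =>
      rw [Function.iterate_succ_apply', Subgroup.lowerCentralSeries_succ]
      exact Subgroup.commutator_mono ih le_top
  exact (key _).trans (by rw [Subgroup.lowerCentralSeries_nilpotencyClass]; exact bot_le)

theorem matsuyama_aux {G : Type*} [Group G] [Finite G] (p : ℕ) [Fact p.Prime] (Z Y : Subgroup G)
    (h : ∀ g : G, IsPGroup p ↥(⨆ y ∈ Y, MulAut.conj (y * g) • Z)) :
    ∃ (P : Sylow p G) (T : Set (Subgroup G)), (∀ B ∈ T, B ≤ (P : Subgroup G)) ∧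
      (∀ B ∈ T, ∀ y ∈ Y, MulAut.conj y • B ∈ T) ∧
      ∀ g : G, MulAut.conj g • Z ≤ (P : Subgroup G) → MulAut.conj g • Z ∈ T := by
  classical
  obtain ⟨T, hT⟩ := exists_maximal_of_wellFoundedGT
    (fun T : Set (Subgroup G) => (∀ B ∈ T, ∃ g : G, B = MulAut.conj g • Z) ∧
      (∀ B ∈ T, ∀ y ∈ Y, MulAut.conj y • B ∈ T) ∧ IsPGroup p ↥(sSup T : Subgroup G))
    ⟨∅, by simp, by simp, by rw [sSup_empty]; exact IsPGroup.of_bot⟩
  obtain ⟨hTZ, hTY, hTp⟩ := hT.prop
  obtain ⟨P, hQP⟩ := hTp.exists_le_sylow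
  have hTP : ∀ B ∈ T, B ≤ (P : Subgroup G) := fun B hB => (le_sSup hB).trans hQP
  refine ⟨P, T, hTP, hTY, ?_⟩
  by_contra hcon
  push_neg at hcon
  obtain ⟨g₀, hg₀P, hg₀T⟩ := hcon
  have hss : T ⊂ {B : Subgroup G | (∃ g : G, B = MulAut.conj g • Z) ∧ B ≤ (P : Subgroup G)} := by
    refine ⟨fun B hB => ⟨hTZ B hB, hTP B hB⟩, fun hsub => hg₀T (hsub ⟨⟨g₀, rfl⟩, hg₀P⟩)⟩
  haveI : Group.IsNilpotent (P : Subgroup G) := P.isPGroup'.isNilpotent
  obtain ⟨X, ⟨⟨g, rfl⟩, hXP⟩, hXT, hXN⟩ := rel_family_normalizes (P : Subgroup G) _ T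
    (fun B hB => hB.2) (fun B _ => isSubnormal_of_isNilpotent _)
    (by
      rintro B ⟨⟨g, rfl⟩, hBP⟩ v hv
      refine ⟨⟨v * g, by rw [map_mul, mul_smul]⟩, ?_⟩
      rintro _ ⟨w, hw, rfl⟩
      have := (P : Subgroup G).mul_mem ((P : Subgroup G).mul_mem hv (hBP hw))
        ((P : Subgroup G).inv_mem hv)
      simpa using this) hss
  have hYQ : Y ≤ Subgroup.normalizer ((sSup T : Subgroup G) : Set G) := by
    rw [Subgroup.le_normalizer_iff]
    intro y hy k hk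
    have hle : sSup T ≤ (sSup T).comap (MulAut.conj y).toMonoidHom := by
      apply sSup_le
      intro B hB u hu
      rw [Subgroup.mem_comap]
      have h4 : (MulAut.conj y).toMonoidHom u ∈ MulAut.conj y • B := ⟨u, hu, rfl⟩
      exact le_sSup (hTY B hB y hy) h4
    have := hle hk
    rw [Subgroup.mem_comap] at this
    simpa using this
  have hR : ∀ y ∈ Y, MulAut.conj (y * g) • Z ≤
      Subgroup.normalizer ((sSup T : Subgroup G) : Set G) := by
    intro y hy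
    rw [map_mul, mul_smul]
    rintro _ ⟨w, hw, rfl⟩
    have := (Subgroup.normalizer ((sSup T : Subgroup G) : Set G)).mul_mem
      ((Subgroup.normalizer ((sSup T : Subgroup G) : Set G)).mul_mem (hYQ hy) (hXN hw))
      ((Subgroup.normalizer ((sSup T : Subgroup G) : Set G)).inv_mem (hYQ hy))
    simpa using this
  have hRle : (⨆ y ∈ Y, MulAut.conj (y * g) • Z) ≤
      Subgroup.normalizer ((sSup T : Subgroup G) : Set G) := iSup₂_le hR
  have hQR : IsPGroup p ↥((⨆ y ∈ Y, MulAut.conj (y * g) • Z) ⊔ sSup T : Subgroup G) :=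
    IsPGroup.to_sup_of_normal_right' (h g) hTp hRle
  have hT₂ := hT.le_of_ge (y := T ∪ {B : Subgroup G | ∃ y ∈ Y, B = MulAut.conj (y * g) • Z})
    ⟨?_, ?_, ?_⟩ Set.subset_union_left
  · exact hXT (hT₂ (Or.inr ⟨1, Y.one_mem, by rw [one_mul]⟩))
  · rintro B (hB | ⟨y, hy, rfl⟩)
    · exact hTZ B hB
    · exact ⟨y * g, rfl⟩
  · rintro B (hB | ⟨y, hy, rfl⟩) y' hy'
    · exact Or.inl (hTY B hB y' hy')
    · exact Or.inr ⟨y' * y, Y.mul_mem hy' hy, by rw [← mul_smul, ← map_mul, mul_assoc]⟩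
  · refine hQR.to_le ?_
    apply sSup_le
    rintro B (hB | ⟨y, hy, rfl⟩)
    · exact (le_sSup hB).trans le_sup_right
    · exact (le_iSup₂ (f := fun y (_ : y ∈ Y) => MulAut.conj (y * g) • Z) y hy).trans le_sup_left

end Cfsg.Agent.Helper4
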