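import Mathlib
import Cfsg.Agent.Lead.NilBound

set_option autoImplicit false

namespace Cfsg.Agent.Helper4

theorem h4nb_block (b w : ℕ) (h : 2 ^ w ∣ b.factorial) (k : ℕ) :
    2 ^ (w * k) ∣ (b * k).factorial := by
  induction k with
  | zero => simp
  | succ k ih =>
    have h1 : (b * k).factorial * b.factorial ∣ (b * k + b).factorial :=
      Nat.factorial_mul_factorial_dvd_factorial_add (b * k) b
    have h2 : 2 ^ (w * k) * 2 ^ w ∣ (b * k).factorial * b.factorial := Nat.mul_dvd_mul ih h
    have e1 : w * (k + 1) = w * k + w := by ring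
    have e2 : b * (k + 1) = b * k + b := by ring
    rw [e1, e2, pow_add]
    exact h2.trans h1

theorem h4nb_v_of_dvd (w n : ℕ) (h : 2 ^ w ∣ n.factorial) : w ≤ n.factorial.factorization 2 :=
  (Nat.prime_two.pow_dvd_iff_le_factorization n.factorial_ne_zero).mp h

theorem h4nb_pow_v_dvd (n : ℕ) : 2 ^ (n.factorial.factorization 2) ∣ n.factorial :=
  Nat.ordProj_dvd n.factorial 2

theorem h4nb_e_rec (p : ℕ) (hp : p.Prime) (n : ℕ) :
    n.factorial.factorization p = (n / p).factorial.factorization p + n / p := by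
  haveI : Fact p.Prime := ⟨hp⟩
  rw [Nat.factorization_def _ hp, Nat.factorization_def _ hp,
    ← padicValNat_mul_div_factorial n, padicValNat_factorial_mul]

theorem h4nb_step (p : ℕ) (hp : p.Prime) (b w : ℕ) (hb : b + 1 ≤ p) (hw : 2 ^ w ∣ b.factorial)
    (hpw : p ≤ 2 ^ w) (n : ℕ) :
    p ^ (n.factorial.factorization p) ≤ 2 ^ (n.factorial.factorization 2) := by
  induction n using Nat.strong_induction_on with
  | _ n ih =>
    rcases Nat.eq_zero_or_pos n with rfl | hn
    · simp
    · obtain ⟨k, hkdef⟩ : ∃ k, k = n / p := ⟨_, rfl⟩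
      have hk : k < n := by rw [hkdef]; exact Nat.div_lt_self hn hp.one_lt
      have ih' := ih k hk
      have hpk : p * k ≤ n := by rw [hkdef]; exact Nat.mul_div_le n p
      rw [h4nb_e_rec p hp n, ← hkdef, pow_add]
      have h1 : p ^ k ≤ 2 ^ (w * k) := by
        rw [pow_mul]; exact Nat.pow_le_pow_left hpw k
      have h2 : 2 ^ (k.factorial.factorization 2) * 2 ^ (w * k) ∣ n.factorial := by
        have ha : 2 ^ (k.factorial.factorization 2) ∣ k.factorial := h4nb_pow_v_dvd k
        have hb' : 2 ^ (w * k) ∣ (b * k).factorial := h4nb_block b w hw k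
        have hc : k.factorial * (b * k).factorial ∣ (k + b * k).factorial :=
          Nat.factorial_mul_factorial_dvd_factorial_add k (b * k)
        have hle : k + b * k ≤ n := by
          calc k + b * k = (b + 1) * k := by ring
            _ ≤ p * k := Nat.mul_le_mul_right k hb
            _ ≤ n := hpk
        exact (Nat.mul_dvd_mul ha hb').trans (hc.trans (Nat.factorial_dvd_factorial hle))
      have h3 : k.factorial.factorization 2 + w * k ≤ n.factorial.factorization 2 := by
        rw [← pow_add] at h2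
        exact h4nb_v_of_dvd _ n h2
      calc p ^ (k.factorial.factorization p) * p ^ k
          ≤ 2 ^ (k.factorial.factorization 2) * 2 ^ (w * k) := Nat.mul_le_mul ih' h1
        _ = 2 ^ (k.factorial.factorization 2 + w * k) := (pow_add _ _ _).symm
        _ ≤ 2 ^ (n.factorial.factorization 2) := Nat.pow_le_pow_right (by norm_num) h3

theorem h4nb_two_mul_add_one_le (j : ℕ) (hj : 3 ≤ j) : 2 * j + 1 ≤ 2 ^ j := by
  induction j, hj using Nat.le_induction with
  | base => norm_num
  | succ j hj ih => rw [pow_succ]; omega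

theorem h4nb_ge5 (p : ℕ) (hp : p.Prime) (h5 : 5 ≤ p) (n : ℕ) :
    p ^ (n.factorial.factorization p) ≤ 2 ^ (n.factorial.factorization 2) := by
  by_cases h7 : p = 5
  · subst h7
    exact h4nb_step 5 hp 4 3 (by norm_num) (by decide) (by norm_num) n
  · have hodd : p % 2 = 1 := by
      rcases hp.eq_two_or_odd with h | h
      · omega
      · exact h
    obtain ⟨j, hj⟩ : ∃ j, p = 2 * j + 1 := ⟨p / 2, by omega⟩
    have hj3 : 3 ≤ j := by omega
    have hw : 2 ^ j ∣ (2 * j).factorial := by
      have h0 := h4nb_block 2 1 (by decide) j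
      simpa using h0
    have hpw : p ≤ 2 ^ j := by
      rw [hj]; exact h4nb_two_mul_add_one_le j hj3
    exact h4nb_step p hp (2 * j) j (by omega) hw hpw n

theorem h4nb_nine (k : ℕ)
    (h : 3 ^ (k.factorial.factorization 3) ≤ 2 ^ (k.factorial.factorization 2)) :
    3 ^ ((9 * k).factorial.factorization 3) ≤ 2 ^ ((9 * k).factorial.factorization 2) := by
  have e1 : (9 * k).factorial.factorization 3 = k.factorial.factorization 3 + 4 * k := by
    have a1 := h4nb_e_rec 3 Nat.prime_three (9 * k)
    have a2 := h4nb_e_rec 3 Nat.prime_three (3 * k)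
    have d1 : 9 * k / 3 = 3 * k := by omega
    have d2 : 3 * k / 3 = k := by omega
    rw [d1] at a1
    rw [d2] at a2
    omega
  have h2 : 2 ^ (k.factorial.factorization 2) * 2 ^ (7 * k) ∣ (9 * k).factorial := by
    have ha : 2 ^ (k.factorial.factorization 2) ∣ k.factorial := h4nb_pow_v_dvd k
    have hb : 2 ^ (7 * k) ∣ (8 * k).factorial := h4nb_block 8 7 (by decide) k
    have hc : k.factorial * (8 * k).factorial ∣ (k + 8 * k).factorial :=
      Nat.factorial_mul_factorial_dvd_factorial_add k (8 * k)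
    have e : k + 8 * k = 9 * k := by ring
    rw [e] at hc
    exact (Nat.mul_dvd_mul ha hb).trans hc
  have h3 : k.factorial.factorization 2 + 7 * k ≤ (9 * k).factorial.factorization 2 := by
    rw [← pow_add] at h2
    exact h4nb_v_of_dvd _ _ h2
  have h4 : (3 : ℕ) ^ (4 * k) ≤ 2 ^ (7 * k) := by
    rw [pow_mul, pow_mul]; exact Nat.pow_le_pow_left (by norm_num) k
  rw [e1, pow_add]
  calc 3 ^ (k.factorial.factorization 3) * 3 ^ (4 * k)
      ≤ 2 ^ (k.factorial.factorization 2) * 2 ^ (7 * k) := Nat.mul_le_mul h h4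
    _ = 2 ^ (k.factorial.factorization 2 + 7 * k) := (pow_add _ _ _).symm
    _ ≤ 2 ^ ((9 * k).factorial.factorization 2) := Nat.pow_le_pow_right (by norm_num) h3

theorem h4nb_e3 : (3 : ℕ).factorial.factorization 3 = 1 := by
  have a := h4nb_e_rec 3 Nat.prime_three 3
  have d : 3 / 3 = 1 := by norm_num
  rw [d] at a
  simpa using a

theorem h4nb_base27 :
    3 ^ ((27 : ℕ).factorial.factorization 3) ≤ 2 ^ ((27 : ℕ).factorial.factorization 2) := by
  have a1 := h4nb_e_rec 3 Nat.prime_three 27
  have a2 := h4nb_e_rec 3 Nat.prime_three 9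
  have a3 := h4nb_e3
  have d1 : 27 / 3 = 9 := by norm_num
  have d2 : 9 / 3 = 3 := by norm_num
  rw [d1] at a1
  rw [d2] at a2
  have e : (27 : ℕ).factorial.factorization 3 = 13 := by omega
  have hv : 23 ≤ (27 : ℕ).factorial.factorization 2 :=
    h4nb_v_of_dvd 23 27 (by decide)
  rw [e]
  calc (3 : ℕ) ^ 13 ≤ 2 ^ 23 := by norm_num
    _ ≤ 2 ^ ((27 : ℕ).factorial.factorization 2) := Nat.pow_le_pow_right (by norm_num) hv

theorem h4nb_pow9 (c : ℕ)
    (hc : 3 ^ (c.factorial.factorization 3) ≤ 2 ^ (c.factorial.factorization 2)) (j : ℕ) :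
    3 ^ ((9 ^ j * c).factorial.factorization 3) ≤ 2 ^ ((9 ^ j * c).factorial.factorization 2) := by
  induction j with
  | zero => simpa using hc
  | succ j ih =>
    have e : 9 ^ (j + 1) * c = 9 * (9 ^ j * c) := by ring
    rw [e]
    exact h4nb_nine _ ih

theorem h4nb_three_pow (a : ℕ) (ha : 2 ≤ a) :
    3 ^ ((3 ^ a).factorial.factorization 3) ≤ 2 ^ ((3 ^ a).factorial.factorization 2) := by
  obtain ⟨j, hj⟩ := Nat.even_or_odd' a
  rcases hj with rfl | rfl
  · have e : 3 ^ (2 * j) = 9 ^ j * 1 := by rw [pow_mul]; norm_num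
    rw [e]
    exact h4nb_pow9 1 (by simp) j
  · obtain ⟨i, rfl⟩ : ∃ i, j = i + 1 := ⟨j - 1, by omega⟩
    have e : 3 ^ (2 * (i + 1) + 1) = 9 ^ i * 27 := by
      have e0 : 2 * (i + 1) + 1 = 2 * i + 3 := by ring
      rw [e0, pow_add, pow_mul]; norm_num
    rw [e]
    exact h4nb_pow9 27 h4nb_base27 i

theorem h4nb_prime_pow (p a : ℕ) (hp : p.Prime) (ha : 1 ≤ a) (h3 : p ^ a ≠ 3) :
    p ^ ((p ^ a).factorial.factorization p) ≤ 2 ^ ((p ^ a).factorial.factorization 2) := by
  by_cases h2 : p = 2
  · subst h2; exact le_refl _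
  by_cases h3' : p = 3
  · subst h3'
    have ha2 : 2 ≤ a := by
      rcases Nat.lt_or_ge a 2 with h | h
      · have h1 : a = 1 := by omega
        subst h1
        exact absurd (pow_one 3) h3
      · exact h
    exact h4nb_three_pow a ha2
  · have h5 : 5 ≤ p := by
      have h2' := hp.two_le
      have h4 : p ≠ 4 := by
        rintro rfl
        exact absurd hp (by decide)
      omega
    exact h4nb_ge5 p hp h5 _

theorem h4nb_sum_le_prod (s : Finset ℕ) (Q : ℕ → ℕ) (hQ : ∀ p ∈ s, 2 ≤ Q p) :
    ∑ p ∈ s, Q p ≤ ∏ p ∈ s, Q p := by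
  classical
  have key : (∑ p ∈ s, Q p ≤ ∏ p ∈ s, Q p) ∧ 1 ≤ ∏ p ∈ s, Q p ∧
      ((∏ p ∈ s, Q p) = 1 → ∑ p ∈ s, Q p = 0) := by
    induction s using Finset.induction_on with
    | empty => simp
    | insert x s hx ih =>
      have hx2 : 2 ≤ Q x := hQ x (Finset.mem_insert_self x s)
      obtain ⟨i1, i2, i3⟩ := ih (fun p hp => hQ p (Finset.mem_insert_of_mem hp))
      rw [Finset.sum_insert hx, Finset.prod_insert hx]
      refine ⟨?_, ?_, ?_⟩
      · rcases Nat.lt_or_ge (∏ p ∈ s, Q p) 2 with h | h
        · have h1 : (∏ p ∈ s, Q p) = 1 := by omega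
          rw [i3 h1, h1]; omega
        · nlinarith
      · exact Nat.mul_pos (by omega) i2
      · intro h
        exfalso
        have h' := Nat.mul_le_mul hx2 i2
        omega
  exact key.1

theorem h4nb_aux (s : Finset ℕ) (T Q : ℕ → ℕ) (hQ : ∀ p ∈ s, 2 ≤ Q p)
    (hT : ∀ p ∈ s, T p ≤ 2 ^ ((Q p).factorial.factorization 2)) :
    ∏ p ∈ s, T p ≤ 2 ^ ((∏ p ∈ s, Q p).factorial.factorization 2) := by
  have h1 : ∏ p ∈ s, T p ≤ ∏ p ∈ s, 2 ^ ((Q p).factorial.factorization 2) :=
    Finset.prod_le_prod (fun _ _ => Nat.zero_le _) hT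
  have h2 : ∏ p ∈ s, 2 ^ ((Q p).factorial.factorization 2)
      = 2 ^ ∑ p ∈ s, (Q p).factorial.factorization 2 :=
    Finset.prod_pow_eq_pow_sum s _ 2
  have h3 : ∑ p ∈ s, (Q p).factorial.factorization 2
      ≤ (∏ p ∈ s, Q p).factorial.factorization 2 := by
    have d1 : ∏ p ∈ s, (Q p).factorial ∣ (∑ p ∈ s, Q p).factorial :=
      Nat.prod_factorial_dvd_factorial_sum s Q
    have d2 : (∑ p ∈ s, Q p).factorial ∣ (∏ p ∈ s, Q p).factorial :=
      Nat.factorial_dvd_factorial (h4nb_sum_le_prod s Q hQ)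
    have d3 := d1.trans d2
    have hne : ∏ p ∈ s, (Q p).factorial ≠ 0 :=
      Finset.prod_ne_zero_iff.mpr (fun p _ => Nat.factorial_ne_zero _)
    have f1 := (Nat.factorization_le_iff_dvd hne (Nat.factorial_ne_zero _)).mpr d3 2
    rw [Nat.factorization_prod (fun p _ => Nat.factorial_ne_zero _)] at f1
    simpa [Finsupp.finset_sum_apply] using f1
  calc ∏ p ∈ s, T p ≤ ∏ p ∈ s, 2 ^ ((Q p).factorial.factorization 2) := h1
    _ = 2 ^ ∑ p ∈ s, (Q p).factorial.factorization 2 := h2
    _ ≤ 2 ^ ((∏ p ∈ s, Q p).factorial.factorization 2) := Nat.pow_le_pow_right (by norm_num) h3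

theorem nilBound_three : Lead.nilBound 3 = 3 := by
  unfold Lead.nilBound
  rw [Nat.prime_three.primeFactors, Finset.prod_singleton, Nat.prime_three.factorization_self,
    pow_one, h4nb_e3, pow_one]

theorem nilBound_le (m : ℕ) (hm : 0 < m) (h3 : m ≠ 3) :
    Lead.nilBound m ≤ 2 ^ (m.factorial.factorization 2) := by
  unfold Lead.nilBound
  have hprod : ∏ p ∈ m.primeFactors, p ^ m.factorization p = m :=
    (Nat.prod_primeFactors_pow_factorization hm.ne').symm
  have hpos : ∀ p ∈ m.primeFactors, 0 < m.factorization p := by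
    intro p hp
    exact (Nat.prime_of_mem_primeFactors hp).factorization_pos_of_dvd hm.ne'
      (Nat.dvd_of_mem_primeFactors hp)
  have hQ2 : ∀ p ∈ m.primeFactors, 2 ≤ p ^ m.factorization p := by
    intro p hp
    have hpp := Nat.prime_of_mem_primeFactors hp
    calc 2 ≤ p := hpp.two_le
      _ = p ^ 1 := (pow_one p).symm
      _ ≤ p ^ m.factorization p := Nat.pow_le_pow_right hpp.pos (hpos p hp)
  by_cases hcase : (3 ∈ m.primeFactors ∧ m.factorization 3 = 1)
  · obtain ⟨h3m, h31⟩ := hcase
    have hT : ∀ p ∈ m.primeFactors.erase 3,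
        p ^ ((p ^ m.factorization p).factorial.factorization p)
          ≤ 2 ^ ((p ^ m.factorization p).factorial.factorization 2) := by
      intro p hp
      have hpm : p ∈ m.primeFactors := Finset.mem_of_mem_erase hp
      have hp3 : p ≠ 3 := Finset.ne_of_mem_erase hp
      have hpp := Nat.prime_of_mem_primeFactors hpm
      apply h4nb_prime_pow p _ hpp (hpos p hpm)
      intro h
      have hd : p ∣ 3 := by rw [← h]; exact dvd_pow_self p (hpos p hpm).ne'
      exact hp3 ((Nat.prime_dvd_prime_iff_eq hpp Nat.prime_three).mp hd)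
    have hQ' : ∀ p ∈ m.primeFactors.erase 3, 2 ≤ p ^ m.factorization p :=
      fun p hp => hQ2 p (Finset.mem_of_mem_erase hp)
    have hmain : ∏ p ∈ m.primeFactors.erase 3,
        p ^ ((p ^ m.factorization p).factorial.factorization p)
          ≤ 2 ^ ((∏ p ∈ m.primeFactors.erase 3, p ^ m.factorization p).factorial.factorization 2) :=
      h4nb_aux (m.primeFactors.erase 3)
        (fun p => p ^ ((p ^ m.factorization p).factorial.factorization p))
        (fun p => p ^ m.factorization p) hQ' hT
    have hsplitT : 3 ^ ((3 ^ m.factorization 3).factorial.factorization 3)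
        * ∏ p ∈ m.primeFactors.erase 3, p ^ ((p ^ m.factorization p).factorial.factorization p)
        = ∏ p ∈ m.primeFactors, p ^ ((p ^ m.factorization p).factorial.factorization p) :=
      Finset.mul_prod_erase m.primeFactors
        (fun p => p ^ ((p ^ m.factorization p).factorial.factorization p)) h3m
    have hsplitQ : 3 ^ m.factorization 3
        * ∏ p ∈ m.primeFactors.erase 3, p ^ m.factorization p = m :=
      (Finset.mul_prod_erase m.primeFactors (fun p => p ^ m.factorization p) h3m).trans hprod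
    rw [h31, pow_one, h4nb_e3, pow_one] at hsplitT
    rw [h31, pow_one] at hsplitQ
    obtain ⟨u, hu⟩ : ∃ u, u = ∏ p ∈ m.primeFactors.erase 3, p ^ m.factorization p := ⟨_, rfl⟩
    rw [← hu] at hmain hsplitQ
    have hu2 : 2 ≤ u := by omega
    have hv : u.factorial.factorization 2 + 3 ≤ m.factorial.factorization 2 := by
      have d1 : u.factorial * (4 : ℕ).factorial ∣ (u + 4).factorial :=
        Nat.factorial_mul_factorial_dvd_factorial_add u 4
      have d2 : (u + 4).factorial ∣ m.factorial := Nat.factorial_dvd_factorial (by omega)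
      have d3 : 2 ^ (u.factorial.factorization 2) * 2 ^ 3 ∣ u.factorial * (4 : ℕ).factorial :=
        Nat.mul_dvd_mul (h4nb_pow_v_dvd u) (by decide)
      have d4 := d3.trans (d1.trans d2)
      rw [← pow_add] at d4
      exact h4nb_v_of_dvd _ _ d4
    rw [← hsplitT]
    calc 3 * ∏ p ∈ m.primeFactors.erase 3, p ^ ((p ^ m.factorization p).factorial.factorization p)
        ≤ 2 ^ 3 * 2 ^ (u.factorial.factorization 2) := Nat.mul_le_mul (by norm_num) hmain
      _ = 2 ^ (u.factorial.factorization 2 + 3) := by rw [pow_add]; ring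
      _ ≤ 2 ^ (m.factorial.factorization 2) := Nat.pow_le_pow_right (by norm_num) hv
  · have hT : ∀ p ∈ m.primeFactors,
        p ^ ((p ^ m.factorization p).factorial.factorization p)
          ≤ 2 ^ ((p ^ m.factorization p).factorial.factorization 2) := by
      intro p hp
      have hpp := Nat.prime_of_mem_primeFactors hp
      apply h4nb_prime_pow p _ hpp (hpos p hp)
      intro h
      have hd : p ∣ 3 := by rw [← h]; exact dvd_pow_self p (hpos p hp).ne'
      have hp3 : p = 3 := (Nat.prime_dvd_prime_iff_eq hpp Nat.prime_three).mp hd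
      subst hp3
      apply hcase
      refine ⟨hp, ?_⟩
      exact Nat.pow_right_injective (le_refl 2 |>.trans (by norm_num)) (h.trans (pow_one 3).symm)
    have hmain : ∏ p ∈ m.primeFactors,
        p ^ ((p ^ m.factorization p).factorial.factorization p)
          ≤ 2 ^ ((∏ p ∈ m.primeFactors, p ^ m.factorization p).factorial.factorization 2) :=
      h4nb_aux m.primeFactors
        (fun p => p ^ ((p ^ m.factorization p).factorial.factorization p))
        (fun p => p ^ m.factorization p) hQ2 hT
    rw [hprod] at hmain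
    exact hmain

end Cfsg.Agent.Helper4
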