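import Mathlib

set_option autoImplicit false

namespace Cfsg.Agent.Helper4

theorem exists_nil_three_mul (n : ℕ) (hn : 3 ≤ n) (P : Sylow 2 (Equiv.Perm (Fin (n - 3)))) :
    ∃ M : Subgroup (Equiv.Perm (Fin n)), Group.IsNilpotent M ∧ Nat.card M = 3 * Nat.card P ∧
      Nonempty (M ≃* (↥(P : Subgroup (Equiv.Perm (Fin (n - 3)))) × Multiplicative (ZMod 3))) := by
  classical
  have hc3 : Fintype.card (Multiplicative (ZMod 3)) = 3 := by
    rw [Fintype.card_multiplicative, ZMod.card]
  have hcard : Fintype.card (Fin (n - 3) ⊕ Multiplicative (ZMod 3)) = Fintype.card (Fin n) := by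
    rw [Fintype.card_sum, Fintype.card_fin, Fintype.card_fin, hc3]
    omega
  let e : (Fin (n - 3) ⊕ Multiplicative (ZMod 3)) ≃ Fin n := Fintype.equivOfCardEq hcard
  let g0 : Multiplicative (ZMod 3) →* Equiv.Perm (Multiplicative (ZMod 3)) :=
    MulAction.toPermHom (Multiplicative (ZMod 3)) (Multiplicative (ZMod 3))
  have hg0 : Function.Injective g0 := MulAction.toPerm_injective
  let g1 : Equiv.Perm (Fin (n - 3)) × Equiv.Perm (Multiplicative (ZMod 3)) →*
      Equiv.Perm (Fin (n - 3) ⊕ Multiplicative (ZMod 3)) := Equiv.Perm.sumCongrHom _ _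
  have hg1 : Function.Injective g1 := Equiv.Perm.sumCongrHom_injective
  let g2 : Equiv.Perm (Fin (n - 3)) × Multiplicative (ZMod 3) →*
      Equiv.Perm (Fin (n - 3)) × Equiv.Perm (Multiplicative (ZMod 3)) :=
    MonoidHom.prodMap (MonoidHom.id _) g0
  have hg2 : Function.Injective g2 := by
    intro x y hxy
    have h3 : (g2 x).1 = (g2 y).1 := congrArg Prod.fst hxy
    have h4 : (g2 x).2 = (g2 y).2 := congrArg Prod.snd hxy
    change x.1 = y.1 at h3
    change g0 x.2 = g0 y.2 at h4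
    exact Prod.ext h3 (hg0 h4)
  let f : Equiv.Perm (Fin (n - 3)) × Multiplicative (ZMod 3) →* Equiv.Perm (Fin n) :=
    (e.permCongrHom.toMonoidHom).comp (g1.comp g2)
  have hf : Function.Injective f := by
    intro x y hxy
    have h1 : g1 (g2 x) = g1 (g2 y) := e.permCongrHom.injective hxy
    exact hg2 (hg1 h1)
  let S : Subgroup (Equiv.Perm (Fin (n - 3)) × Multiplicative (ZMod 3)) :=
    (P : Subgroup (Equiv.Perm (Fin (n - 3)))).prod ⊤
  let eq1 : ↥(S.map f) ≃* ↥(P : Subgroup (Equiv.Perm (Fin (n - 3)))) × Multiplicative (ZMod 3) :=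
    ((S.equivMapOfInjective f hf).symm.trans
      ((P : Subgroup (Equiv.Perm (Fin (n - 3)))).prodEquiv ⊤)).trans
      (MulEquiv.prodCongr (MulEquiv.refl _) Subgroup.topEquiv)
  refine ⟨S.map f, ?_, ?_, ⟨eq1⟩⟩
  · have : Group.IsNilpotent ↥(P : Subgroup (Equiv.Perm (Fin (n - 3)))) :=
      (P.isPGroup').isNilpotent
    exact Group.nilpotent_of_mulEquiv eq1.symm
  · rw [Nat.card_congr eq1.toEquiv, Nat.card_prod]
    have h3 : Nat.card (Multiplicative (ZMod 3)) = 3 := by
      rw [Nat.card_eq_fintype_card, hc3]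
    rw [h3, mul_comm]

end Cfsg.Agent.Helper4
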