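import Mathlib
import Cfsg.Prelude.Def_PLocal
import Cfsg.Agent.Helper4.StableNormal

set_option autoImplicit false

namespace Cfsg.Agent.Helper4

universe u

open scoped commutatorElement

/-- The analogue of the ZJ-theorem for `W(S)`, with the `p`-stability hypotheses in the form
actually used. -/
theorem snn_main' {G : Type u} [Group G] [Finite G] {p : ℕ} [Fact p.Prime]
    (hst1 : ∀ (V : Subgroup G) [V.Normal], Cfsg.IsElementaryAbelian p V → Cfsg.IsPStableOn p V)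
    (hWQ' : ∀ a : G,
      (∀ x ∈ Cfsg.pCore p G, a * (a * x * a⁻¹ * x⁻¹) * a⁻¹ = a * x * a⁻¹ * x⁻¹) →
        a ∈ Cfsg.pCore p G)
    (hst3 : ∀ (S : Sylow p G)
      (V : Subgroup ↥(Subgroup.normalizer (Cfsg.thompsonSubgroupOf p (S : Subgroup G) : Set G)))
      [V.Normal],
      V.map (Subgroup.normalizer (Cfsg.thompsonSubgroupOf p (S : Subgroup G) : Set G)).subtype ≤
          (Cfsg.omegaCenterThompson p ↥(S : Subgroup G)).map (S : Subgroup G).subtype →
        Cfsg.IsPStableOn p V)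
    (hc : Subgroup.centralizer (Cfsg.pCore p G : Set G) ≤ Cfsg.pCore p G) (S : Sylow p G) :
    (((Cfsg.stableNormalClosure p ↥(S : Subgroup G)).map (S : Subgroup G).subtype)).Normal := by
  classical
  have hN := snn_normalizer_le hst3 hc S
  have hSp : IsPGroup p ↥(S : Subgroup G) := S.isPGroup'
  obtain ⟨hWchar, hZW, hWΩ, -, -⟩ := Cfsg.Agent.S0622.result hSp
  obtain ⟨W, hWdef⟩ : ∃ W, W = Cfsg.stableNormalClosure p ↥(S : Subgroup G) := ⟨_, rfl⟩
  rw [← hWdef] at hWchar hZW hWΩ hN ⊢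
  obtain ⟨W', hW'def⟩ : ∃ W' : Subgroup G, W' = W.map (S : Subgroup G).subtype := ⟨_, rfl⟩
  rw [← hW'def] at hN ⊢
  have hWn : W.Normal := by
    haveI := hWchar
    infer_instance
  have hWS : ∀ s ∈ (S : Subgroup G), ∀ w ∈ W', s * w * s⁻¹ ∈ W' := by
    intro s hs w hw
    rw [hW'def] at hw ⊢
    obtain ⟨w₀, hw₀, rfl⟩ := hw
    exact ⟨⟨s, hs⟩ * w₀ * ⟨s, hs⟩⁻¹, hWn.conj_mem w₀ hw₀ ⟨s, hs⟩, rfl⟩
  have hΩle := snn_oct_le p ↥(S : Subgroup G)
  have hWab : ∀ x ∈ W', ∀ y ∈ W', x * y = y * x := by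
    intro x hx y hy
    rw [hW'def] at hx hy
    obtain ⟨x₀, hx₀, rfl⟩ := hx
    obtain ⟨y₀, hy₀, rfl⟩ := hy
    have hx' := hΩle (hWΩ hx₀)
    have hy' := hΩle (hWΩ hy₀)
    have h := (Subgroup.mem_centralizer_iff.mp (Subgroup.mem_inf.mp hy').2) x₀
      (Subgroup.mem_inf.mp hx').1
    rw [← map_mul, ← map_mul, h]
  have hWexp : ∀ x ∈ W', x ^ p = 1 := by
    intro x hx
    rw [hW'def] at hx
    obtain ⟨x₀, hx₀, rfl⟩ := hx
    rw [← map_pow, snn_oct_pow p _ x₀ (hWΩ hx₀), map_one]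
  have hQS : Cfsg.pCore p G ≤ (S : Subgroup G) := Cfsg.Agent.Helper16.pCore_le_sylow S
  have hQn : (Cfsg.pCore p G).Normal := inferInstance
  -- `W' ≤ O_p(G)`
  have hWQ : W' ≤ Cfsg.pCore p G := by
    intro a ha
    apply hWQ' a
    intro x hx
    have hxS : x ∈ (S : Subgroup G) := hQS hx
    have h1 : x * a⁻¹ * x⁻¹ ∈ W' := hWS x hxS a⁻¹ (W'.inv_mem ha)
    have h2 : a * x * a⁻¹ * x⁻¹ ∈ W' := by
      have e : a * x * a⁻¹ * x⁻¹ = a * (x * a⁻¹ * x⁻¹) := by group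
      rw [e]; exact W'.mul_mem ha h1
    have h3 := hWab a ha _ h2
    rw [h3, mul_inv_cancel_right]
  -- the normal closure `X` of `W'`
  obtain ⟨X, hXdef⟩ : ∃ X : Subgroup G, X = Subgroup.normalClosure (W' : Set G) := ⟨_, rfl⟩
  have hXn : X.Normal := by rw [hXdef]; infer_instance
  have hW'X : W' ≤ X := by rw [hXdef]; exact Subgroup.le_normalClosure
  -- elements of `S` acting quadratically on `W'` centralize it
  have hSQ : ∀ t ∈ (S : Subgroup G), ⁅⁅W', Subgroup.zpowers t⁆, Subgroup.zpowers t⁆ = ⊥ →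
      ∀ w ∈ W', t * w = w * t := by
    intro t ht hq w hw
    have hq' : ⁅⁅W.map (S : Subgroup G).subtype,
          Subgroup.zpowers ((S : Subgroup G).subtype ⟨t, ht⟩)⁆,
        Subgroup.zpowers ((S : Subgroup G).subtype ⟨t, ht⟩)⁆ = ⊥ := by
      rw [← hW'def]; exact hq
    have hq'' := snq_quad_pullback (S : Subgroup G).subtype (Subgroup.subtype_injective _) W
      ⟨t, ht⟩ hq'
    rw [hWdef] at hq''
    have h1 := snq_main hSp ⟨t, ht⟩ hq''
    rw [← hWdef] at h1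
    have h2 := congrArg (Subgroup.map (S : Subgroup G).subtype) h1
    rw [Subgroup.map_commutator, MonoidHom.map_zpowers, Subgroup.map_bot, ← hW'def] at h2
    have h3 := Subgroup.commutator_eq_bot_iff_le_centralizer.mp h2
    exact (Subgroup.mem_centralizer_iff.mp (h3 hw)) t (Subgroup.mem_zpowers t)
  -- conjugates of `W'` commute with `W'`
  have hCC : ∀ g : G, ∀ x ∈ W', ∀ y ∈ W', (g * x * g⁻¹) * y = y * (g * x * g⁻¹) := by
    intro g x hx y hy
    have hx₁Q : g * x * g⁻¹ ∈ Cfsg.pCore p G := hQn.conj_mem x (hWQ hx) g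
    refine hSQ (g * x * g⁻¹) (hQS hx₁Q) ?_ y hy
    rw [Subgroup.commutator_eq_bot_iff_le_centralizer, Subgroup.commutator_le]
    intro w hw b hb
    obtain ⟨b₀, hb₀, rfl⟩ := snn_zp_conj_mem W' g x hx b hb
    have hw' : g⁻¹ * w * g ∈ (S : Subgroup G) := by
      have h := hQn.conj_mem w (hWQ hw) g⁻¹
      rw [inv_inv] at h
      exact hQS h
    have hv : (g⁻¹ * w * g) * b₀ * (g⁻¹ * w * g)⁻¹ * b₀⁻¹ ∈ W' :=
      W'.mul_mem (hWS _ hw' b₀ hb₀) (W'.inv_mem hb₀)
    have e : ⁅w, g * b₀ * g⁻¹⁆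
        = g * ((g⁻¹ * w * g) * b₀ * (g⁻¹ * w * g)⁻¹ * b₀⁻¹) * g⁻¹ := by
      rw [commutatorElement_def]; group
    rw [e, Subgroup.mem_centralizer_iff]
    intro c hc'
    obtain ⟨c₀, hc₀, rfl⟩ := snn_zp_conj_mem W' g x hx c hc'
    have h := hWab c₀ hc₀ _ hv
    calc g * c₀ * g⁻¹ * (g * ((g⁻¹ * w * g) * b₀ * (g⁻¹ * w * g)⁻¹ * b₀⁻¹) * g⁻¹)
        = g * (c₀ * ((g⁻¹ * w * g) * b₀ * (g⁻¹ * w * g)⁻¹ * b₀⁻¹)) * g⁻¹ := by group
      _ = g * (((g⁻¹ * w * g) * b₀ * (g⁻¹ * w * g)⁻¹ * b₀⁻¹) * c₀) * g⁻¹ := by rw [h]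
      _ = g * ((g⁻¹ * w * g) * b₀ * (g⁻¹ * w * g)⁻¹ * b₀⁻¹) * g⁻¹ * (g * c₀ * g⁻¹) := by group
  -- generators of `X`
  have hY : ∀ y ∈ Group.conjugatesOfSet (W' : Set G), ∃ k : G, ∃ w ∈ W', y = k * w * k⁻¹ := by
    intro y hy
    obtain ⟨w, hw, hconj⟩ := Group.mem_conjugatesOfSet_iff.mp hy
    obtain ⟨k, hk⟩ := isConj_iff.mp hconj
    exact ⟨k, w, hw, hk.symm⟩
  have hYcomm : ∀ y₁ ∈ Group.conjugatesOfSet (W' : Set G),
      ∀ y₂ ∈ Group.conjugatesOfSet (W' : Set G), y₁ * y₂ = y₂ * y₁ := by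
    intro y₁ hy₁ y₂ hy₂
    obtain ⟨k₁, w₁, hw₁, rfl⟩ := hY y₁ hy₁
    obtain ⟨k₂, w₂, hw₂, rfl⟩ := hY y₂ hy₂
    have h := hCC (k₂⁻¹ * k₁) w₁ hw₁ w₂ hw₂
    calc k₁ * w₁ * k₁⁻¹ * (k₂ * w₂ * k₂⁻¹)
        = k₂ * ((k₂⁻¹ * k₁) * w₁ * (k₂⁻¹ * k₁)⁻¹ * w₂) * k₂⁻¹ := by group
      _ = k₂ * (w₂ * ((k₂⁻¹ * k₁) * w₁ * (k₂⁻¹ * k₁)⁻¹)) * k₂⁻¹ := by rw [h]
      _ = k₂ * w₂ * k₂⁻¹ * (k₁ * w₁ * k₁⁻¹) := by group
  have hXcomm : ∀ a ∈ X, ∀ b ∈ X, a * b = b * a := by
    have h1 : ∀ y ∈ Group.conjugatesOfSet (W' : Set G), X ≤ Subgroup.centralizer {y} := by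
      intro y hy
      rw [hXdef]
      show Subgroup.closure (Group.conjugatesOfSet (W' : Set G)) ≤ _
      rw [Subgroup.closure_le]
      intro z hz
      rw [SetLike.mem_coe, Subgroup.mem_centralizer_iff]
      intro h hh
      rw [Set.mem_singleton_iff] at hh
      rw [hh]
      exact hYcomm y hy z hz
    intro a ha b hb
    have h2 : X ≤ Subgroup.centralizer {a} := by
      rw [hXdef]
      show Subgroup.closure (Group.conjugatesOfSet (W' : Set G)) ≤ _
      rw [Subgroup.closure_le]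
      intro y hy
      rw [SetLike.mem_coe, Subgroup.mem_centralizer_iff]
      intro h hh
      rw [Set.mem_singleton_iff] at hh
      rw [hh]
      exact ((Subgroup.mem_centralizer_iff.mp (h1 y hy ha)) y (Set.mem_singleton y)).symm
    exact (Subgroup.mem_centralizer_iff.mp (h2 hb)) a (Set.mem_singleton a)
  have hXexp' : ∀ a ∈ Subgroup.closure (Group.conjugatesOfSet (W' : Set G)), a ^ p = 1 := by
    intro a ha'
    induction ha' using Subgroup.closure_induction with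
    | mem y hy =>
      obtain ⟨k, w, hw, rfl⟩ := hY y hy
      rw [conj_pow, hWexp w hw, mul_one, mul_inv_cancel]
    | one => exact one_pow p
    | mul x y hx hy ihx ihy =>
      have hxX : x ∈ X := by rw [hXdef]; exact hx
      have hyX : y ∈ X := by rw [hXdef]; exact hy
      rw [(show Commute x y from hXcomm x hxX y hyX).mul_pow, ihx, ihy, one_mul]
    | inv x hx ihx => rw [inv_pow, ihx, inv_one]
  have hXexp : ∀ a ∈ X, a ^ p = 1 := by
    intro a ha
    rw [hXdef] at ha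
    exact hXexp' a ha
  have hXea : Cfsg.IsElementaryAbelian p X := by
    show IsMulCommutative X ∧ ∀ a ∈ X, a ^ p = 1
    refine ⟨?_, hXexp⟩
    rw [← Subgroup.le_centralizer_iff_isMulCommutative]
    intro a ha
    rw [Subgroup.mem_centralizer_iff]
    intro b hb
    exact hXcomm b hb a ha
  -- `p`-stability on `X`
  haveI := hXn
  have hstX := hst1 X hXea
  have hQC : ∀ a : G, ⁅⁅X, Subgroup.zpowers a⁆, Subgroup.zpowers a⁆ = ⊥ →
      ∀ w ∈ W', a * w = w * a := by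
    intro a hq w hw
    have hmem := hstX a hq
    have hsurj : Function.Surjective (QuotientGroup.mk' (Subgroup.centralizer (X : Set G))) :=
      QuotientGroup.mk'_surjective _
    have hle := Cfsg.Agent.Helper16.pCore_le_sylow (S.mapSurjective hsurj)
    have hmem3 : (QuotientGroup.mk a : G ⧸ Subgroup.centralizer (X : Set G)) ∈
        (S : Subgroup G).map (QuotientGroup.mk' (Subgroup.centralizer (X : Set G))) := hle hmem
    obtain ⟨t, ht, hte⟩ := Subgroup.mem_map.mp hmem3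
    have hte' : ((t : G) : G ⧸ Subgroup.centralizer (X : Set G))
        = ((a : G) : G ⧸ Subgroup.centralizer (X : Set G)) := hte
    have hta : ∀ k : ℤ, (a ^ k)⁻¹ * t ^ k ∈ Subgroup.centralizer (X : Set G) := by
      intro k
      apply QuotientGroup.eq.mp
      rw [QuotientGroup.mk_zpow, QuotientGroup.mk_zpow, hte']
    have htq := snq_quad_coset X a t hta hq
    have htq' : ⁅⁅W', Subgroup.zpowers t⁆, Subgroup.zpowers t⁆ = ⊥ := by
      have h := Subgroup.commutator_mono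
        (Subgroup.commutator_mono hW'X (le_refl (Subgroup.zpowers t)))
        (le_refl (Subgroup.zpowers t))
      rw [htq] at h
      exact le_bot_iff.mp h
    have htw := hSQ t ht htq' w hw
    have hc' : t⁻¹ * a ∈ Subgroup.centralizer (X : Set G) := QuotientGroup.eq.mp hte'
    have hcw : w * (t⁻¹ * a) = (t⁻¹ * a) * w :=
      (Subgroup.mem_centralizer_iff.mp hc') w (hW'X hw)
    calc a * w = t * ((t⁻¹ * a) * w) := by group
      _ = t * (w * (t⁻¹ * a)) := by rw [hcw]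
      _ = (t * w) * (t⁻¹ * a) := (mul_assoc _ _ _).symm
      _ = (w * t) * (t⁻¹ * a) := by rw [htw]
      _ = w * a := by group
  have hAQ : ∀ A ∈ Cfsg.maxElementaryAbelianSubgroups p G, ⁅⁅X, A⁆, A⁆ = ⊥ → ⁅X, A⁆ = ⊥ := by
    intro A hA hq
    rw [Subgroup.commutator_eq_bot_iff_le_centralizer, hXdef]
    show Subgroup.closure (Group.conjugatesOfSet (W' : Set G)) ≤ _
    rw [Subgroup.closure_le]
    intro y hy
    obtain ⟨k, w, hw, rfl⟩ := hY y hy
    rw [SetLike.mem_coe, Subgroup.mem_centralizer_iff]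
    intro a ha
    have haq : ⁅⁅X, Subgroup.zpowers a⁆, Subgroup.zpowers a⁆ = ⊥ := by
      have h := Subgroup.commutator_mono
        (Subgroup.commutator_mono (le_refl X) (Subgroup.zpowers_le.mpr ha))
        (Subgroup.zpowers_le.mpr ha)
      rw [hq] at h
      exact le_bot_iff.mp h
    have haq' := snq_quad_conj X a k⁻¹ haq
    rw [inv_inv] at haq'
    have h := hQC (k⁻¹ * a * k) haq' w hw
    calc a * (k * w * k⁻¹) = k * ((k⁻¹ * a * k) * w) * k⁻¹ := by group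
      _ = k * (w * (k⁻¹ * a * k)) * k⁻¹ := by rw [h]
      _ = k * w * k⁻¹ * a := by group
  have hAll : ∀ A ∈ Cfsg.maxElementaryAbelianSubgroups p G,
      A ≤ Subgroup.centralizer (X : Set G) := by
    intro A hA
    obtain ⟨hA₀, hA₀q, hA₀n⟩ := Cfsg.Agent.S0607.result X hXea A hA
    have h0 := hAQ _ hA₀ hA₀q
    have h1 : ⁅X, A⁆ = ⊥ := by
      by_contra hne
      exact hA₀n hne h0
    exact Subgroup.le_centralizer_iff.mp (Subgroup.commutator_eq_bot_iff_le_centralizer.mp h1)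
  have hJC : Cfsg.thompsonSubgroup p G ≤ Subgroup.centralizer (X : Set G) := sSup_le hAll
  have hfr := snn_frattini S (Subgroup.centralizer (X : Set G)) hJC
  rw [← Subgroup.normalizer_eq_top_iff, eq_top_iff, ← hfr]
  apply sup_le hN
  intro c hc'
  apply uni_normalizer_of_conj
  · intro w hw
    have h := (Subgroup.mem_centralizer_iff.mp hc') w (hW'X hw)
    have e : c * w * c⁻¹ = w := by rw [← h, mul_inv_cancel_right]
    rw [e]; exact hw
  · intro w hw
    have h := (Subgroup.mem_centralizer_iff.mp hc') w (hW'X hw)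
    have e : c⁻¹ * w * c = w := by rw [mul_assoc, h, inv_mul_cancel_left]
    rw [e]; exact hw

end Cfsg.Agent.Helper4
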