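import Mathlib
import Cfsg.Agent.Helper4.Schmidt
import Cfsg.Agent.Helper4.Schmidt2
import Cfsg.Agent.Helper4.CompSystem
import Cfsg.Agent.Helper4.Supersolvable2
import Cfsg.Agent.Helper1.SZ

set_option autoImplicit false

namespace Cfsg.Agent.Helper4

universe u

open scoped Pointwise

theorem prime_dvd_card_of_coprime_index {G : Type*} [Group G] [Finite G] (H K : Subgroup G)
    (hKcop : (Nat.card K).Coprime H.index) (r : ℕ) (hr : r.Prime) (hrK : r ∣ Nat.card K) :
    r ∣ Nat.card H := by
  have h1 : r ∣ Nat.card H * H.index := by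
    rw [Subgroup.card_mul_index]; exact hrK.trans (Subgroup.card_subgroup_dvd_card K)
  rcases (Nat.Prime.dvd_mul hr).mp h1 with h | h
  · exact h
  · exfalso
    have h2 : r ∣ Nat.gcd (Nat.card K) H.index := Nat.dvd_gcd hrK h
    rw [hKcop.gcd_eq_one] at h2
    exact hr.one_lt.ne' (Nat.dvd_one.mp h2)

/-- A nontrivial finite group all of whose proper subgroups are nilpotent has a nontrivial normal
`p`-subgroup for some prime `p`. -/
theorem exists_normal_pgroup_of_proper_nilpotent {K : Type u} [Group K] [Finite K]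
    (hK1 : 1 < Nat.card K) (hprop : ∀ K₁ : Subgroup K, K₁ ≠ ⊤ → Group.IsNilpotent K₁) :
    ∃ (p : ℕ) (_ : Fact p.Prime) (P : Subgroup K), P.Normal ∧ IsPGroup p P ∧ P ≠ ⊥ := by
  by_cases hnil : Group.IsNilpotent K
  · obtain ⟨p, hp, hpd⟩ := Nat.exists_prime_and_dvd hK1.ne'
    haveI : Fact p.Prime := ⟨hp⟩
    obtain ⟨P⟩ : Nonempty (Sylow p K) := inferInstance
    exact ⟨p, ⟨hp⟩, (P : Subgroup K), inferInstance, P.2, P.ne_bot_of_dvd_card hpd⟩
  · obtain ⟨p, q, X, y, hpF, hqF, P, Q, hpq, hP, hQ, hXn, htop, hyC, hdis, hcard⟩ :=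
      schmidt_sylow ⟨hnil, hprop⟩
    refine ⟨q, hqF, X, hXn, by rw [← hQ]; exact Q.2, ?_⟩
    intro hX
    apply hyC
    rw [hX, Subgroup.mem_centralizer_iff]
    intro h hh
    have : h = 1 := Subgroup.mem_bot.mp hh
    rw [this, one_mul, mul_one]

theorem exists_sylow_le_of_hall {G : Type*} [Group G] [Finite G] (H : Subgroup G)
    (hHall : (Nat.card H).Coprime H.index) (r : ℕ) [Fact r.Prime] (hr : r ∣ Nat.card H) :
    ∃ R : Sylow r G, (R : Subgroup G) ≤ H := by
  obtain ⟨RH⟩ : Nonempty (Sylow r H) := inferInstance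
  have hp : IsPGroup r ↥((RH : Subgroup H).map H.subtype) := RH.2.map H.subtype
  have hidx : ¬ r ∣ ((RH : Subgroup H).map H.subtype).index := by
    rw [Subgroup.index_map_subtype]
    intro hd
    rcases (Nat.Prime.dvd_mul Fact.out).mp hd with h | h
    · exact RH.not_dvd_index h
    · have h2 : r ∣ Nat.gcd (Nat.card H) H.index := Nat.dvd_gcd hr h
      rw [hHall.gcd_eq_one] at h2
      exact (Fact.out : r.Prime).one_lt.ne' (Nat.dvd_one.mp h2)
  exact ⟨hp.toSylow hidx, Subgroup.map_subtype_le _⟩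

theorem exists_conj_sylow_le_of_hall {G : Type*} [Group G] [Finite G] (H : Subgroup G)
    (hHall : (Nat.card H).Coprime H.index) (p : ℕ) [Fact p.Prime] (hp : p ∣ Nat.card H)
    (S : Sylow p G) : ∃ g : G, (S : Subgroup G) ≤ MulAut.conj g • H := by
  obtain ⟨R, hR⟩ := exists_sylow_le_of_hall H hHall p hp
  obtain ⟨g, hg⟩ := MulAction.exists_smul_eq G R S
  refine ⟨g, ?_⟩
  have h1 : ((g • R : Sylow p G) : Subgroup G) = S := by rw [hg]
  rw [Sylow.smul_def, Sylow.pointwise_smul_def] at h1
  rw [← h1]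
  exact Subgroup.pointwise_smul_le_pointwise_smul_iff.mpr hR

theorem wielandt_quotient_step {N : Type u} [Group N] [Finite N] (P M K : Subgroup N)
    [hPn : P.Normal] (hP : P ≠ ⊥) (hPM : P ≤ M) (hPK : P ≤ K) (hM : Group.IsNilpotent M)
    (hHall : (Nat.card M).Coprime M.index) (hKcop : (Nat.card K).Coprime M.index)
    (ih : ∀ c' < Nat.card K, ∀ (G' : Type u) [Group G'] [Finite G'] (H' K' : Subgroup G'),
      Nat.card K' = c' → Group.IsNilpotent H' → (Nat.card H').Coprime H'.index →
      (Nat.card K').Coprime H'.index → ∃ x : G', K' ≤ MulAut.conj x • H') :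
    ∃ n : N, K ≤ MulAut.conj n • M := by
  have hπ : Function.Surjective (QuotientGroup.mk' P) := QuotientGroup.mk'_surjective P
  have hKlt : Nat.card (K.map (QuotientGroup.mk' P)) < Nat.card K := by
    have h1 : (K.map (QuotientGroup.mk' P)).comap (QuotientGroup.mk' P) = K := by
      rw [Subgroup.comap_map_eq, QuotientGroup.ker_mk', sup_eq_left.mpr hPK]
    have h2 := card_comap_mk' P (K.map (QuotientGroup.mk' P))
    rw [h1] at h2
    have h3 : 1 < Nat.card P := (Subgroup.one_lt_card_iff_ne_bot P).mpr hP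
    have h4 : 0 < Nat.card (K.map (QuotientGroup.mk' P)) := Nat.card_pos
    rw [h2]; nlinarith
  haveI := hM
  have hMnil : Group.IsNilpotent ↥(M.map (QuotientGroup.mk' P)) :=
    Group.nilpotent_of_surjective ((QuotientGroup.mk' P).subgroupMap M)
      (MonoidHom.subgroupMap_surjective _ _)
  have hidx : (M.map (QuotientGroup.mk' P)).index = M.index := by
    rw [Subgroup.index_map, MonoidHom.range_eq_top_of_surjective _ hπ, Subgroup.index_top,
      mul_one, QuotientGroup.ker_mk', sup_eq_left.mpr hPM]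
  have hHall' : (Nat.card (M.map (QuotientGroup.mk' P))).Coprime
      (M.map (QuotientGroup.mk' P)).index := by
    rw [hidx]; exact Nat.Coprime.coprime_dvd_left (Subgroup.card_map_dvd _ _) hHall
  have hKcop' : (Nat.card (K.map (QuotientGroup.mk' P))).Coprime
      (M.map (QuotientGroup.mk' P)).index := by
    rw [hidx]; exact Nat.Coprime.coprime_dvd_left (Subgroup.card_map_dvd _ _) hKcop
  obtain ⟨xb, hxb⟩ := ih _ hKlt (N ⧸ P) (M.map (QuotientGroup.mk' P))
    (K.map (QuotientGroup.mk' P)) rfl hMnil hHall' hKcop'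
  obtain ⟨n, rfl⟩ := hπ xb
  refine ⟨n, ?_⟩
  intro k hk
  have h1 : (QuotientGroup.mk' P) k ∈
      MulAut.conj ((QuotientGroup.mk' P) n) • M.map (QuotientGroup.mk' P) :=
    hxb (Subgroup.mem_map_of_mem _ hk)
  rw [Subgroup.mem_pointwise_smul_iff_inv_smul_mem, ← map_inv, MulAut.smul_def,
    MulAut.conj_apply, inv_inv] at h1
  obtain ⟨m, hm, hmk⟩ := Subgroup.mem_map.mp h1
  have h2 : (QuotientGroup.mk' P) m = (QuotientGroup.mk' P) (n⁻¹ * k * n) := by
    rw [map_mul, map_mul, map_inv]; exact hmk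
  have h2' : m⁻¹ * (n⁻¹ * k * n) ∈ P := QuotientGroup.eq.mp h2
  have h3 : n⁻¹ * k * n ∈ M := by
    have : n⁻¹ * k * n = m * (m⁻¹ * (n⁻¹ * k * n)) := by group
    rw [this]; exact M.mul_mem hm (hPM h2')
  rw [Subgroup.mem_pointwise_smul_iff_inv_smul_mem, ← map_inv, MulAut.smul_def,
    MulAut.conj_apply, inv_inv]
  exact h3

theorem wielandt_aux : ∀ (c : ℕ) (G : Type u) [Group G] [Finite G] (H K : Subgroup G),
    Nat.card K = c → Group.IsNilpotent H → (Nat.card H).Coprime H.index →
    (Nat.card K).Coprime H.index → ∃ x : G, K ≤ MulAut.conj x • H := by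
  intro c
  induction c using Nat.strong_induction_on with
  | _ c ih =>
    intro G _ _ H K hc hH hHall hKcop
    by_cases hc1 : c ≤ 1
    · have hKb : K = ⊥ :=
        Subgroup.eq_bot_of_card_eq K (by have := Nat.card_pos (α := K); omega)
      exact ⟨1, by rw [hKb]; exact bot_le⟩
    push_neg at hc1
    haveI := hH
    have hprop : ∀ K₁ : Subgroup K, K₁ ≠ ⊤ → Group.IsNilpotent K₁ := by
      intro K₁ hK₁
      have hlt : Nat.card (K₁.map K.subtype) < c := by
        rw [Subgroup.card_subtype, ← hc]; exact Cfsg.Agent.Helper1.card_lt_of_ne_top K₁ hK₁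
      have hcop₁ : (Nat.card (K₁.map K.subtype)).Coprime H.index :=
        Nat.Coprime.coprime_dvd_left (Subgroup.card_dvd_of_le (Subgroup.map_subtype_le K₁)) hKcop
      obtain ⟨x, hx⟩ := ih _ hlt G H (K₁.map K.subtype) rfl hH hHall hcop₁
      haveI h1 : Group.IsNilpotent ↥(MulAut.conj x • H) :=
        Group.nilpotent_of_mulEquiv (Subgroup.equivSMul (MulAut.conj x) H)
      haveI h2 : Group.IsNilpotent ↥((K₁.map K.subtype).subgroupOf (MulAut.conj x • H)) :=
        inferInstance
      haveI h3 : Group.IsNilpotent ↥(K₁.map K.subtype) :=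
        Group.nilpotent_of_mulEquiv (Subgroup.subgroupOfEquivOfLe hx)
      exact Group.nilpotent_of_mulEquiv
        (Subgroup.equivMapOfInjective K₁ K.subtype K.subtype_injective).symm
    have hK1 : 1 < Nat.card K := by rw [hc]; exact hc1
    obtain ⟨p, hpF, P, hPn, hPp, hPne⟩ := exists_normal_pgroup_of_proper_nilpotent hK1 hprop
    haveI := hpF
    obtain ⟨P₀, hP₀⟩ : ∃ P₀ : Subgroup G, P₀ = P.map K.subtype := ⟨_, rfl⟩
    have hP₀K : P₀ ≤ K := by rw [hP₀]; exact Subgroup.map_subtype_le P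
    have hP₀p : IsPGroup p P₀ := by rw [hP₀]; exact hPp.map K.subtype
    have hP₀ne : P₀ ≠ ⊥ := by
      rw [hP₀]; intro h
      exact hPne ((Subgroup.map_eq_bot_iff_of_injective P K.subtype_injective).mp h)
    have hKN : K ≤ Subgroup.normalizer (P₀ : Set G) := by
      rw [Subgroup.le_normalizer_iff, hP₀]
      rintro h hh _ ⟨y, hy, rfl⟩
      exact ⟨⟨h, hh⟩ * y * ⟨h, hh⟩⁻¹, hPn.conj_mem y hy ⟨h, hh⟩, by simp⟩
    have hpK : p ∣ Nat.card K := by
      have h1 : 1 < Nat.card P₀ := (Subgroup.one_lt_card_iff_ne_bot P₀).mpr hP₀ne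
      obtain ⟨n, hn⟩ := IsPGroup.iff_card.mp hP₀p
      have hn0 : n ≠ 0 := by
        intro h0
        rw [h0, pow_zero] at hn
        omega
      have h2 : p ∣ Nat.card P₀ := by rw [hn]; exact dvd_pow_self p hn0
      exact h2.trans (Subgroup.card_dvd_of_le hP₀K)
    have hpH : p ∣ Nat.card H := prime_dvd_card_of_coprime_index H K hKcop p hpF.out hpK
    obtain ⟨N, hN⟩ : ∃ N : Subgroup G, N = Subgroup.normalizer (P₀ : Set G) := ⟨_, rfl⟩
    rw [← hN] at hKN
    have hP₀N : P₀ ≤ N := hP₀K.trans hKN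
    haveI hPNn : (P₀.subgroupOf N).Normal := Subgroup.normal_subgroupOf_of_le_normalizer hN.le
    obtain ⟨S₀'⟩ : Nonempty (Sylow p N) := inferInstance
    have hPS₀' : P₀.subgroupOf N ≤ (S₀' : Subgroup N) :=
      IsPGroup.le_sylow_of_normal (N := P₀.subgroupOf N)
        (hP₀p.comap_subtype : IsPGroup p ↥(P₀.subgroupOf N)) S₀'
    obtain ⟨S, hS⟩ := (S₀'.2.map N.subtype).exists_le_sylow
    obtain ⟨g, hg⟩ := exists_conj_sylow_le_of_hall H hHall p hpH S
    obtain ⟨H', hH'⟩ : ∃ H' : Subgroup G, H' = MulAut.conj g • H := ⟨_, rfl⟩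
    rw [← hH'] at hg
    haveI hH'nil : Group.IsNilpotent ↥H' := by
      rw [hH']; exact Group.nilpotent_of_mulEquiv (Subgroup.equivSMul (MulAut.conj g) H)
    have hH'card : Nat.card H' = Nat.card H := by
      rw [hH']; exact Nat.card_congr (Subgroup.equivSMul (MulAut.conj g) H).toEquiv.symm
    have hH'Hall : (Nat.card H').Coprime H'.index := by
      rw [hH'card, hH', index_conj_smul]; exact hHall
    have hS₀H' : (S₀' : Subgroup N).map N.subtype ≤ H' := hS.trans hg
    have hS₀N : (S₀' : Subgroup N).map N.subtype ≤ N := Subgroup.map_subtype_le _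
    have hP₀S₀ : P₀ ≤ (S₀' : Subgroup N).map N.subtype := by
      have := Subgroup.map_mono (f := N.subtype) hPS₀'
      rwa [Subgroup.map_subgroupOf_eq_of_le hP₀N] at this
    have hrel : ∀ r : ℕ, r.Prime → r ∣ Nat.card H → ¬ r ∣ (H' ⊓ N).relIndex N := by
      intro r hr hrH hd
      by_cases hrp : r = p
      · have h1 : (S₀' : Subgroup N).map N.subtype ≤ H' ⊓ N := le_inf hS₀H' hS₀N
        have h2 : (H' ⊓ N).relIndex N ∣ ((S₀' : Subgroup N).map N.subtype).relIndex N :=
          Subgroup.relIndex_dvd_of_le_left N h1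
        have h3 : ((S₀' : Subgroup N).map N.subtype).relIndex N = (S₀' : Subgroup N).index := by
          have : ((S₀' : Subgroup N).map N.subtype).subgroupOf N = (S₀' : Subgroup N) :=
            Subgroup.comap_map_eq_self_of_injective N.subtype_injective _
          rw [Subgroup.relIndex, this]
        rw [h3] at h2
        rw [hrp] at hd
        exact S₀'.not_dvd_index (hd.trans h2)
      · haveI : Fact r.Prime := ⟨hr⟩
        obtain ⟨R, hR⟩ := exists_sylow_le_of_hall H' hH'Hall r (by rw [hH'card]; exact hrH)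
        have hRN : (R : Subgroup G) ≤ N := by
          intro x hx
          rw [hN]
          refine Subgroup.centralizer_le_normalizer (P₀ : Set G) ?_
          rw [Subgroup.mem_centralizer_iff]
          intro z hz
          obtain ⟨a, ha⟩ := R.2 ⟨x, hx⟩
          have ha' : x ^ r ^ a = 1 := by simpa using congrArg Subtype.val ha
          obtain ⟨b, hb⟩ := hP₀p ⟨z, hz⟩
          have hb' : z ^ p ^ b = 1 := by simpa using congrArg Subtype.val hb
          have hcop : (orderOf z).Coprime (orderOf x) :=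
            Nat.Coprime.coprime_dvd_left (orderOf_dvd_of_pow_eq_one hb')
              (Nat.Coprime.coprime_dvd_right (orderOf_dvd_of_pow_eq_one ha')
                (Nat.Coprime.pow _ _ ((Nat.coprime_primes hpF.out hr).mpr (Ne.symm hrp))))
          exact commute_of_mem_nilpotent H' (hS₀H' (hP₀S₀ hz)) (hR hx) hcop
        have h1 : (R : Subgroup G) ≤ H' ⊓ N := le_inf hR hRN
        have h2 : (H' ⊓ N).relIndex N ∣ (R : Subgroup G).relIndex N :=
          Subgroup.relIndex_dvd_of_le_left N h1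
        have h3 : (R : Subgroup G).relIndex N ∣ (R : Subgroup G).index :=
          Subgroup.relIndex_dvd_index_of_le hRN
        exact R.not_dvd_index (hd.trans (h2.trans h3))
    obtain ⟨M, hMdef⟩ : ∃ M : Subgroup G, M = H' ⊓ N := ⟨_, rfl⟩
    rw [← hMdef] at hrel
    have hMN : M ≤ N := by rw [hMdef]; exact inf_le_right
    have hMH' : M ≤ H' := by rw [hMdef]; exact inf_le_left
    have hP₀M : P₀ ≤ M := by rw [hMdef]; exact le_inf (hP₀S₀.trans hS₀H') hP₀N
    have hPt_ne : P₀.subgroupOf N ≠ ⊥ := by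
      rw [← Subgroup.one_lt_card_iff_ne_bot,
        Nat.card_congr (Subgroup.subgroupOfEquivOfLe hP₀N).toEquiv]
      exact (Subgroup.one_lt_card_iff_ne_bot P₀).mpr hP₀ne
    have hMt_nil : Group.IsNilpotent ↥(M.subgroupOf N) := by
      haveI : Group.IsNilpotent ↥(M.subgroupOf H') := inferInstance
      haveI : Group.IsNilpotent ↥M :=
        Group.nilpotent_of_mulEquiv (Subgroup.subgroupOfEquivOfLe hMH')
      exact Group.nilpotent_of_mulEquiv (Subgroup.subgroupOfEquivOfLe hMN).symm
    have hMt_card : Nat.card (M.subgroupOf N) = Nat.card M :=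
      Nat.card_congr (Subgroup.subgroupOfEquivOfLe hMN).toEquiv
    have hKt_card : Nat.card (K.subgroupOf N) = Nat.card K :=
      Nat.card_congr (Subgroup.subgroupOfEquivOfLe hKN).toEquiv
    have hMt_idx : (M.subgroupOf N).index = M.relIndex N := rfl
    have hHall_t : (Nat.card (M.subgroupOf N)).Coprime (M.subgroupOf N).index := by
      rw [hMt_card, hMt_idx]
      apply Nat.coprime_of_dvd
      intro r hr hrM
      exact hrel r hr (by rw [← hH'card]; exact hrM.trans (Subgroup.card_dvd_of_le hMH'))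
    have hKcop_t : (Nat.card (K.subgroupOf N)).Coprime (M.subgroupOf N).index := by
      rw [hKt_card, hMt_idx]
      apply Nat.coprime_of_dvd
      intro r hr hrK
      exact hrel r hr (prime_dvd_card_of_coprime_index H K hKcop r hr hrK)
    obtain ⟨n, hn⟩ := wielandt_quotient_step (P₀.subgroupOf N) (M.subgroupOf N)
      (K.subgroupOf N) hPt_ne (Subgroup.comap_mono hP₀M) (Subgroup.comap_mono hP₀K) hMt_nil
      hHall_t hKcop_t (by rw [hKt_card, hc]; exact ih)
    rw [Subgroup.conj_smul_subgroupOf hMN n] at hn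
    refine ⟨(n : G) * g, ?_⟩
    intro k hk
    have h1 : (⟨k, hKN hk⟩ : N) ∈ (MulAut.conj (n : G) • M).subgroupOf N :=
      hn (Subgroup.mem_subgroupOf.mpr hk)
    have h2 : k ∈ MulAut.conj (n : G) • M := Subgroup.mem_subgroupOf.mp h1
    have h3 : MulAut.conj (n : G) • M ≤ MulAut.conj (n : G) • H' :=
      Subgroup.pointwise_smul_le_pointwise_smul_iff.mpr hMH'
    rw [map_mul, mul_smul, ← hH']
    exact h3 h2

/-- Wielandt: a nilpotent Hall subgroup contains a conjugate of every subgroup whose order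
involves only primes dividing its order. -/
theorem wielandt_nilpotent_hall {G : Type u} [Group G] [Finite G] (H K : Subgroup G)
    (hH : Group.IsNilpotent H) (hHall : (Nat.card H).Coprime H.index)
    (hK : ∀ p : ℕ, p.Prime → p ∣ Nat.card K → p ∣ Nat.card H) :
    ∃ x : G, K ≤ MulAut.conj x • H := by
  apply wielandt_aux _ G H K rfl hH hHall
  apply Nat.coprime_of_dvd
  intro r hr hrK hrI
  have h1 : r ∣ Nat.gcd (Nat.card H) H.index := Nat.dvd_gcd (hK r hr hrK) hrI
  rw [hHall.gcd_eq_one] at h1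
  exact hr.one_lt.ne' (Nat.dvd_one.mp h1)

end Cfsg.Agent.Helper4
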